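import Groth.Agent.L05.ModelFG

/-!
An algebra as the union of its finitely generated subalgebras, on spectra.
-/

universe u

open CategoryTheory CategoryTheory.Limits AlgebraicGeometry Opposite

namespace L02.ConsP.FGA

set_option backward.isDefEq.respectTransparency.types false
set_option backward.isDefEq.respectTransparency false
set_option backward.defeqAttrib.useBackward true
set_option linter.style.haveILetI false

variable (R₀ : Type u) [CommRing R₀] (A : Type u) [CommRing A] [Algebra R₀ A]

/-- The finitely generated subrings. -/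
def FG : Type u := {S : Subalgebra R₀ A // S.FG}

instance : PartialOrder (FG R₀ A) := inferInstanceAs (PartialOrder (Subtype _))

instance : Nonempty (FG R₀ A) := ⟨⟨⊥, Subalgebra.fg_bot⟩⟩

instance : IsDirected (FG R₀ A) (· ≤ ·) :=
  ⟨fun S T => ⟨⟨S.1 ⊔ T.1, S.2.sup T.2⟩, le_sup_left (a := S.1), le_sup_right (a := S.1)⟩⟩

/-- The subrings as a diagram. -/
def diagram : FG R₀ A ⥤ CommRingCat.{u} where
  obj S := CommRingCat.of S.1
  map {S T} h := CommRingCat.ofHom (Subalgebra.inclusion (show S.1 ≤ T.1 from h.le)).toRingHom
  map_id _ := rfl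
  map_comp _ _ := rfl

/-- The whole ring as a cocone. -/
def cocone : Cocone (diagram R₀ A) where
  pt := CommRingCat.of A
  ι :=
    { app := fun S => CommRingCat.ofHom (algebraMap S.1 A)
      naturality := fun _ _ _ => rfl }

/-- A ring is the union of its finitely generated subrings. -/
noncomputable def isColimitCocone : IsColimit (cocone R₀ A) := by
  haveI : PreservesColimitsOfShape (FG R₀ A) (forget CommRingCat.{u}) := inferInstance
  haveI : HasColimitsOfShape (FG R₀ A) CommRingCat.{u} := inferInstance
  haveI : ReflectsColimitsOfShape (FG R₀ A) (forget CommRingCat.{u}) :=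
    reflectsColimitsOfShape_of_reflectsIsomorphisms
  refine isColimitOfReflects (forget CommRingCat.{u}) ?_
  refine Types.FilteredColimit.isColimitOf' _ _ (fun x => ?_) (fun S x y h => ?_)
  · let x' : A := x
    exact ⟨⟨Algebra.adjoin R₀ {x'}, by simpa using Subalgebra.fg_adjoin_finset (R := R₀) {x'}⟩,
      ⟨x', Algebra.subset_adjoin (Set.mem_singleton _)⟩, rfl⟩
  · exact ⟨S, 𝟙 S, by rw [show x = y from Subtype.ext h]⟩

/-- The spectra of the subrings. -/
noncomputable def specDiagram : (FG R₀ A)ᵒᵖ ⥤ Scheme.{u} := (diagram R₀ A).op ⋙ Scheme.Spec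

instance (S : (FG R₀ A)ᵒᵖ) : IsAffine ((specDiagram R₀ A).obj S) := inferInstanceAs (IsAffine (Spec _))

instance {S T : (FG R₀ A)ᵒᵖ} (f : S ⟶ T) : IsAffineHom ((specDiagram R₀ A).map f) :=
  isAffineHom_of_isAffine _

/-- The spectrum of the ring as a cone. -/
noncomputable def specCone : Cone (specDiagram R₀ A) := Scheme.Spec.mapCone (cocone R₀ A).op

/-- The spectrum of a ring is the limit of the spectra of its finitely generated subrings. -/
noncomputable def isLimitSpecCone : IsLimit (specCone R₀ A) :=
  haveI : PreservesLimitsOfSize.{u, u} Scheme.Spec.{u} := ΓSpec.adjunction.rightAdjoint_preservesLimits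
  isLimitOfPreserves Scheme.Spec (isColimitCocone R₀ A).op

end L02.ConsP.FGA
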