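import Groth.Agent.L02.ConsP.ForallFibre
import Groth.Agent.L28.Fib.Main
import Groth.Agent.L21.CurvFib.DimExt
import Groth.Agent.L06.FibreDimCons
import Groth.Agent.L19.Limit.QuasiFinite
import Groth.Agent.L23.AffineMor

/-!
Finite, radicial, quasi-finite and of given dimension are constructible properties.
-/

set_option autoImplicit false
set_option linter.style.haveILetI false
set_option backward.isDefEq.respectTransparency.types false
set_option backward.isDefEq.respectTransparency false
universe u

open CategoryTheory CategoryTheory.Limits AlgebraicGeometry Topology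

namespace L02.ConsP

/-- A locally constructible subset of an irreducible space is dense open somewhere, or its complement is. -/
theorem dichotomy {S : Type u} [TopologicalSpace S] [QuasiSober S] [IrreducibleSpace S] [CompactSpace S]
    [QuasiSeparatedSpace S] [PrespectralSpace S] {E : Set S} (hE : IsLocallyConstructible E) :
    (interior E).Nonempty ∨ (interior Eᶜ).Nonempty := by
  by_cases h : genericPoint S ∈ E
  · exact Or.inl ⟨_, mem_interior_of_ind (isIndConstructible_of_isLocallyConstructible hE) h⟩
  · exact Or.inr ⟨_, mem_interior_of_ind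
      (isIndConstructible_of_isLocallyConstructible hE.isConstructible.compl.isLocallyConstructible) h⟩

theorem fpqc_of_field {Y Y' T T' : Scheme.{u}} [IsIntegral T] [Subsingleton T] [IsIntegral T'] [Subsingleton T']
    {g : Y ⟶ T} {g' : Y' ⟶ T'} {e : Y' ⟶ Y} {h : T' ⟶ T} (sq : IsPullback e g' g h) :
    (@Surjective ⊓ @Flat ⊓ @QuasiCompact : MorphismProperty Scheme.{u}) h ∧
      (@Surjective ⊓ @Flat ⊓ @QuasiCompact : MorphismProperty Scheme.{u}) e := by
  haveI : Nonempty T' := IsIntegral.nonempty
  haveI : Surjective h := ⟨fun t => ⟨Classical.arbitrary _, Subsingleton.elim _ _⟩⟩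
  haveI : Flat h := inferInstance
  haveI : QuasiCompact h := ⟨fun U _ _ => (Set.subsingleton_of_subsingleton).finite.isCompact⟩
  exact ⟨⟨⟨inferInstance, inferInstance⟩, inferInstance⟩, ⟨⟨MorphismProperty.of_isPullback sq.flip ‹_›,
    MorphismProperty.of_isPullback sq.flip ‹_›⟩, MorphismProperty.of_isPullback sq.flip ‹_›⟩⟩

theorem isFinite_fibre_iff {X S : Scheme.{u}} (u : X ⟶ S) [LocallyOfFiniteType u] [QuasiCompact u] (s : S) :
    IsFinite (u.fiberToSpecResidueField s) ↔ ∀ x : X, u x = s → u.QuasiFiniteAt x := by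
  haveI : LocallyOfFiniteType (u.fiberToSpecResidueField s) := MorphismProperty.pullback_snd _ _ ‹_›
  haveI : QuasiCompact (u.fiberToSpecResidueField s) := MorphismProperty.pullback_snd _ _ ‹_›
  constructor
  · intro h x hx
    obtain ⟨p, rfl⟩ := (u.range_fiberι s).ge hx
    exact Groth.L19.Limit.quasiFiniteAt_fst (IsPullback.of_hasPullback u (S.fromSpecResidueField s))
      ((u.fiberToSpecResidueField s).quasiFiniteAt p)
  · intro h
    haveI : DiscreteTopology ↥(u ⁻¹' {s}) := discreteTopology_iff_isOpen_singleton.mpr fun x =>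
      (Groth.L19.Limit.quasiFiniteAt_iff_isOpen u x.1 x.2).mp (h x.1 x.2)
    haveI : DiscreteTopology (u.fiber s) := (u.fiberHomeo s).discreteTopology_iff.2 ‹_›
    haveI : LocallyQuasiFinite (u.fiberToSpecResidueField s) :=
      locallyQuasiFinite_iff_isDiscrete_preimage_singleton.mpr fun _ =>
        isDiscrete_iff_discreteTopology.2 inferInstance
    exact IsFinite.of_locallyQuasiFinite _

theorem isCons_isFinite : ConsProp.IsCons.{u} (fun Y T g => IsFinite g) := by
  refine ⟨fun Y Y' T T' g g' e h _ _ _ _ _ _ sq => ?_, fun X S u _ _ _ _ => ?_⟩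
  · exact ⟨fun H => MorphismProperty.of_isPullback sq H,
      fun H => MorphismProperty.of_isPullback_of_descendsAlong sq.flip (fpqc_of_field sq).1 H⟩
  haveI : LocallyOfFinitePresentation u := inferInstance
  haveI : IsLocallyNoetherian X := LocallyOfFiniteType.isLocallyNoetherian u
  have hc : IsLocallyConstructible (u '' (u.quasiFiniteLocus : Set X)ᶜ) :=
    u.isLocallyConstructible_image (Groth.L06.FibreDimLocConst.isLocallyConstructible_closed u.quasiFiniteLocus.2.isClosed_compl)
  have he : ConsProp.locus (fun Y T g => IsFinite g) u = (u '' (u.quasiFiniteLocus : Set X)ᶜ)ᶜ := by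
    ext s
    refine (isFinite_fibre_iff u s).trans ?_
    simp only [Set.mem_compl_iff, Set.mem_image, not_exists, not_and]
    exact ⟨fun H x hx hxs => hx (H x hxs), fun H x hxs => not_not.1 fun hx => H x hx hxs⟩
  rw [he, compl_compl]
  exact (dichotomy hc).symm

theorem isCons_universallyInjective : ConsProp.IsCons.{u} (fun Y T g => UniversallyInjective g) := by
  refine ⟨fun Y Y' T T' g g' e h _ _ _ _ _ _ sq => ?_, fun X S u _ _ _ _ => ?_⟩
  · exact ⟨fun H => MorphismProperty.of_isPullback sq H,
      fun H => MorphismProperty.of_isPullback_of_descendsAlong sq.flip (fpqc_of_field sq).1 H⟩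
  haveI : LocallyOfFinitePresentation (u ≫ 𝟙 S) := by rw [Category.comp_id]; infer_instance
  haveI : QuasiCompact (u ≫ 𝟙 S) := by rw [Category.comp_id]; infer_instance
  haveI : IsLocallyNoetherian X := LocallyOfFiniteType.isLocallyNoetherian u
  have hc := Groth.L28.Fib.isLocallyConstructible_universallyInjective u (𝟙 S)
  have he : ConsProp.locus (fun Y T g => UniversallyInjective g) u =
      {s | UniversallyInjective (Groth.L28.Fib.fibMap u (𝟙 S) s)} := by
    ext s
    have h1 : u.fiberToSpecResidueField s =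
        (pullback.congrHom (Category.comp_id u).symm rfl).hom ≫ Groth.L28.Fib.fibMap u (𝟙 S) s ≫
          pullback.snd (𝟙 S) (S.fromSpecResidueField s) := by
      simp [Scheme.Hom.fiberToSpecResidueField]
    show UniversallyInjective (u.fiberToSpecResidueField s) ↔ _
    rw [h1, MorphismProperty.cancel_left_of_respectsIso (P := @UniversallyInjective),
      MorphismProperty.cancel_right_of_respectsIso (P := @UniversallyInjective)]
    rfl
  rw [he]
  exact dichotomy hc

theorem isCons_dim_mem (Φ : Set (WithBot ℕ∞)) : ConsProp.IsCons.{u} (fun Y T g => topologicalKrullDim ↥Y ∈ Φ) := by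
  refine ⟨fun Y Y' T T' g g' e h _ _ _ _ _ _ sq => ?_, fun X S u _ _ _ _ => ?_⟩
  · haveI : IsAffine T := isAffine_of_point T
    haveI : IsAffine T' := isAffine_of_point T'
    letI : Field Γ(T, ⊤) := (isField_Γ_of_subsingleton T).toField
    letI : Field Γ(T', ⊤) := (isField_Γ_of_subsingleton T').toField
    haveI : LocallyOfFiniteType (g ≫ T.isoSpec.hom) := inferInstance
    have h2 : IsPullback e (g' ≫ T'.isoSpec.hom) (g ≫ T.isoSpec.hom) (T'.isoSpec.inv ≫ h ≫ T.isoSpec.hom) :=
      sq.of_iso (Iso.refl _) (Iso.refl _) T'.isoSpec T.isoSpec (by simp) (by simp) (by simp) (by simp)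
    show topologicalKrullDim Y ∈ Φ ↔ topologicalKrullDim Y' ∈ Φ
    rw [Groth.L21.CurvFib.topologicalKrullDim_eq_of_isPullback Γ(T, ⊤) Γ(T', ⊤) (g ≫ T.isoSpec.hom)
      (T'.isoSpec.inv ≫ h ≫ T.isoSpec.hom) (g' ≫ T'.isoSpec.hom) e h2]
  haveI : LocallyOfFinitePresentation u := inferInstance
  have hc := Groth.L06.FibreDimCons.isLocallyConstructible_fibre_eq u (topologicalKrullDim ↥(u.fiber (genericPoint S)))
  have hint := mem_interior_of_ind (isIndConstructible_of_isLocallyConstructible hc) rfl
  by_cases hΦ : topologicalKrullDim ↥(u.fiber (genericPoint S)) ∈ Φ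
  · refine Or.inl ⟨_, interior_mono (fun s hs => ?_) hint⟩
    show topologicalKrullDim ↥(u.fiber s) ∈ Φ
    rw [show topologicalKrullDim ↥(u.fiber s) = _ from hs]; exact hΦ
  · refine Or.inr ⟨_, interior_mono (fun s hs => ?_) hint⟩
    intro h
    have h' : topologicalKrullDim ↥(u.fiber s) ∈ Φ := h
    rw [show topologicalKrullDim ↥(u.fiber s) = _ from hs] at h'; exact hΦ h'

theorem isConsMor_congr {P Q : ∀ ⦃X Y T : Scheme.{u}⦄, (X ⟶ Y) → (Y ⟶ T) → Prop} (hP : ConsProp.IsConsMor P)
    (h : ∀ ⦃X Y T : Scheme.{u}⦄ (f : X ⟶ Y) (g : Y ⟶ T) [IsIntegral T] [Subsingleton T] [LocallyOfFiniteType g]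
      [QuasiCompact g] [LocallyOfFiniteType (f ≫ g)] [QuasiCompact (f ≫ g)], P f g ↔ Q f g) :
    ConsProp.IsConsMor Q := by
  refine ⟨fun X X' Y Y' T T' f g f' g' eX eY k _ _ _ _ _ _ _ _ sqY sqX => ?_, fun X Y S f g _ _ _ _ _ _ => ?_⟩
  · haveI : LocallyOfFiniteType g' := MorphismProperty.of_isPullback sqY ‹_›
    haveI : QuasiCompact g' := MorphismProperty.of_isPullback sqY ‹_›
    haveI : LocallyOfFiniteType (f' ≫ g') := MorphismProperty.of_isPullback (sqX.paste_vert sqY) ‹_›
    haveI : QuasiCompact (f' ≫ g') := MorphismProperty.of_isPullback (sqX.paste_vert sqY) ‹_›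
    exact (h f g).symm.trans ((hP.1 f g f' g' eX eY k sqY sqX).trans (h f' g'))
  · have he : ConsProp.locusMor Q f g = ConsProp.locusMor P f g := Set.ext fun s => by
      haveI : LocallyOfFiniteType (g.fiberToSpecResidueField s) := MorphismProperty.pullback_snd _ _ ‹_›
      haveI : QuasiCompact (g.fiberToSpecResidueField s) := MorphismProperty.pullback_snd _ _ ‹_›
      have h2 : MoreMor.fiberMap f g s ≫ g.fiberToSpecResidueField s = (f ≫ g).fiberToSpecResidueField s :=
        pullback.lift_snd _ _ _
      haveI : LocallyOfFiniteType (MoreMor.fiberMap f g s ≫ g.fiberToSpecResidueField s) := by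
        rw [h2]; exact MorphismProperty.pullback_snd _ _ ‹_›
      haveI : QuasiCompact (MoreMor.fiberMap f g s ≫ g.fiberToSpecResidueField s) := by
        rw [h2]; exact MorphismProperty.pullback_snd _ _ ‹_›
      exact (h _ _).symm
    rw [he]
    exact hP.2 f g

theorem isConsMor_quasiFinite : ConsProp.IsConsMor.{u}
    (fun X Y T f g => LocallyOfFiniteType f ∧ QuasiCompact f ∧ LocallyQuasiFinite f) := by
  refine isConsMor_congr (isConsMor_forall isCons_isFinite) fun X Y T f g _ _ _ _ _ _ => ?_
  haveI : IsLocallyNoetherian Y := isLocallyNoetherian_of_field_base g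
  haveI : LocallyOfFiniteType f := locallyOfFiniteType_of_comp f g
  haveI : QuasiCompact f := QuasiCompact.of_comp f g
  exact ⟨fun H => ⟨‹_›, ‹_›, locallyQuasiFinite_iff_isFinite_fiber.mpr H⟩,
    fun H => locallyQuasiFinite_iff_isFinite_fiber.mp H.2.2⟩

theorem isConsMor_universallyInjective : ConsProp.IsConsMor.{u} (fun X Y T f g => UniversallyInjective f) := by
  refine ⟨fun X X' Y Y' T T' f g f' g' eX eY k _ _ _ _ _ _ _ _ sqY sqX => ?_, fun X Y S f g _ _ _ _ _ _ => ?_⟩
  · exact ⟨fun H => MorphismProperty.of_isPullback sqX H,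
      fun H => MorphismProperty.of_isPullback_of_descendsAlong sqX.flip (fpqc_of_field sqY).2 H⟩
  haveI : IsLocallyNoetherian Y := LocallyOfFiniteType.isLocallyNoetherian g
  haveI : IsLocallyNoetherian X := LocallyOfFiniteType.isLocallyNoetherian (f ≫ g)
  haveI : LocallyOfFinitePresentation g := inferInstance
  haveI : LocallyOfFinitePresentation (f ≫ g) := inferInstance
  exact dichotomy (Groth.L28.Fib.isLocallyConstructible_universallyInjective f g)

end L02.ConsP
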