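import Groth.Agent.L02.ConsP.Main
import Groth.Agent.L02.ConsP.FGA
import Groth.Agent.L02.ConsP.Simple
import Groth.Agent.L19.Limit.Immersion

/-!
A property of morphisms that descends along limits and along field extensions is an ind-constructible
property of morphisms of algebraic schemes.
-/

set_option autoImplicit false
set_option linter.style.haveILetI false
set_option backward.isDefEq.respectTransparency.types false
set_option backward.isDefEq.respectTransparency false
universe u

open CategoryTheory CategoryTheory.Limits AlgebraicGeometry Topology Opposite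
open Groth.L19.Limit

namespace L02.ConsP

variable {Q : MorphismProperty Scheme.{u}} [Q.IsStableUnderBaseChange]

theorem isFieldStableMor_of_descendsAlong [Q.DescendsAlong (@Surjective ⊓ @Flat ⊓ @QuasiCompact)] :
    ConsProp.IsFieldStableMor (fun X Y T f g => Q f) := by
  intro X X' Y Y' T T' f g f' g' eX eY h _ _ _ _ _ _ _ _ sqY sqX
  exact ⟨fun H => MorphismProperty.of_isPullback sqX H,
    fun H => MorphismProperty.of_isPullback_of_descendsAlong sqX.flip (fpqc_of_field sqY).2 H⟩

/-- A descending property of a fibre spreads out over a finite type scheme hitting the point. -/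
theorem exists_spread_mor (hQ : Descends Q qcqsfp) {X Y S : Scheme.{u}} (f : X ⟶ Y) (g : Y ⟶ S)
    [IsNoetherian S] [LocallyOfFiniteType g] [QuasiCompact g] [LocallyOfFiniteType (f ≫ g)] [QuasiCompact (f ≫ g)]
    {η : S} (hη : Q (MoreMor.fiberMap f g η)) :
    ∃ (B : Scheme.{u}) (a : B ⟶ S), LocallyOfFiniteType a ∧ QuasiCompact a ∧ η ∈ Set.range a ∧
      Q (pullback.snd f (pullback.fst g a)) := by
  let K : Type u := S.residueField η
  obtain ⟨_, ⟨V, hV, rfl⟩, hηV, -⟩ :=
    S.isBasis_affineOpens.exists_subset_of_mem_open (Set.mem_univ η) isOpen_univ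
  replace hV : IsAffineOpen V := hV
  let hT : Spec (CommRingCat.of K) ⟶ S := S.fromSpecResidueField η
  have hle : (⊤ : (Spec (CommRingCat.of K)).Opens) ≤ hT ⁻¹ᵁ V := fun t _ => by
    show hT t ∈ V
    rw [show hT t = η from (Scheme.range_fromSpecResidueField η).subset ⟨t, rfl⟩]; exact hηV
  let A := Γ(S, V)
  letI : Algebra A K := ((hT.appLE V ⊤ hle) ≫ (Scheme.ΓSpecIso (CommRingCat.of K)).hom).hom.toAlgebra
  let D := FGA.specDiagram A K
  let c := FGA.specCone A K
  have hc : IsLimit c := FGA.isLimitSpecCone A K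
  haveI : ∀ i, CompactSpace (D.obj i) := fun i => inferInstanceAs (CompactSpace (Spec _))
  let toS : ∀ i, D.obj i ⟶ S := fun i => Spec.map (CommRingCat.ofHom (algebraMap A i.unop.1)) ≫ hV.fromSpec
  have htoS : ∀ {i j} (φ : i ⟶ j), D.map φ ≫ toS j = toS i := fun φ => by
    show Spec.map _ ≫ Spec.map _ ≫ _ = _
    rw [← Category.assoc, ← Spec.map_comp]
    rfl
  have htoS_lft : ∀ i, LocallyOfFiniteType (toS i) := fun i => by
    haveI : LocallyOfFiniteType (Spec.map (CommRingCat.ofHom (algebraMap A i.unop.1))) :=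
      HasRingHomProperty.Spec_iff.mpr (RingHom.finiteType_algebraMap.mpr (Subalgebra.fg_iff_finiteType _ |>.mp i.unop.2))
    exact inferInstanceAs (LocallyOfFiniteType (_ ≫ _))
  have he : ∀ i, c.π.app i ≫ toS i = hT := fun i => by
    show Spec.map _ ≫ Spec.map _ ≫ _ = _
    rw [← Category.assoc, ← Spec.map_comp]
    refine (congrArg (fun z => Spec.map z ≫ hV.fromSpec)
      (show _ = hT.appLE V ⊤ hle ≫ (Scheme.ΓSpecIso (CommRingCat.of K)).hom from CommRingCat.hom_ext rfl)).trans ?_
    rw [Spec.map_comp, Category.assoc, IsAffineOpen.SpecMap_appLE_fromSpec hT hV (isAffineOpen_top _) hle,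
      IsAffineOpen.fromSpec_top, Scheme.isoSpec_Spec_inv, ← Category.assoc, ← Spec.map_comp]
    simp
  haveI : LocallyOfFinitePresentation g := inferInstance
  haveI : IsLocallyNoetherian Y := LocallyOfFiniteType.isLocallyNoetherian g
  haveI : LocallyOfFiniteType f := locallyOfFiniteType_of_comp f g
  haveI : QuasiCompact f := QuasiCompact.of_comp f g
  haveI : IsLocallyNoetherian X := LocallyOfFiniteType.isLocallyNoetherian f
  haveI : LocallyOfFinitePresentation f := inferInstance
  let i₀ : (FGA.FG A K)ᵒᵖ := op ⟨⊥, Subalgebra.fg_bot⟩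
  let yi : pullback g (toS i₀) ⟶ D.obj i₀ := pullback.snd g (toS i₀)
  let J : Over i₀ := Over.mk (𝟙 i₀)
  let w : (bcDiagram D yi).obj J ⟶ Y := pullback.snd (D.map J.hom) yi ≫ pullback.fst g (toS i₀)
  haveI : QuasiCompact yi := MorphismProperty.pullback_snd _ _ inferInstance
  haveI : CompactSpace ((bcDiagram D yi).obj J) :=
    haveI : QuasiCompact (pullback.fst (D.map J.hom) yi) := MorphismProperty.pullback_fst _ _ ‹_›
    QuasiCompact.compactSpace_of_compactSpace (pullback.fst (D.map J.hom) yi)
  let π' : (bcCone D c yi).pt ⟶ Y := pullback.snd (c.π.app i₀) yi ≫ pullback.fst g (toS i₀)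
  have hπ : IsPullback π' (pullback.fst (c.π.app i₀) yi) g hT := by
    have := (IsPullback.of_hasPullback (c.π.app i₀) yi).flip.paste_horiz (IsPullback.of_hasPullback g (toS i₀))
    rwa [he] at this
  let ψ := hπ.isoPullback
  have hψ : π' = ψ.hom ≫ g.fiberι η := (hπ.isoPullback_hom_fst).symm
  have hlim : Pb Q f π' := by
    rw [hψ]
    exact pb_comp ψ.hom ((pb_iff_of_isPullback (isPullback_fiberMap f g η)).mp hη)
  obtain ⟨k, m, hk⟩ := hQ (isLimitBcCone (D := D) yi hc) (i := J) (pullback.snd f w)
    (MorphismProperty.pullback_snd _ _ (show qcqsfp f from ⟨⟨inferInstance, inferInstance⟩, inferInstance⟩))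
    ((pb_snd_iff w _).mpr (by
      rw [show (bcCone D c yi).π.app J ≫ w = π' by simp [bcCone, w, π']]
      exact hlim))
  have hk' := (pb_snd_iff w _).mp hk
  have hp : (bcDiagram D yi).map m ≫ w = pullback.snd (D.map k.hom) yi ≫ pullback.fst g (toS i₀) := by
    simp [w, bcDiagram]
  rw [hp] at hk'
  have sqk : IsPullback (pullback.snd (D.map k.hom) yi ≫ pullback.fst g (toS i₀)) (pullback.fst (D.map k.hom) yi)
      g (toS k.left) := by
    have := (IsPullback.of_hasPullback (D.map k.hom) yi).flip.paste_horiz (IsPullback.of_hasPullback g (toS i₀))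
    rwa [htoS] at this
  refine ⟨D.obj k.left, toS k.left, htoS_lft _, QuasiCompact.of_comp (toS k.left) (terminal.from S), ?_, ?_⟩
  · obtain ⟨t⟩ : Nonempty (Spec (CommRingCat.of K)) := inferInstance
    exact ⟨c.π.app k.left t, by
      rw [← Scheme.Hom.comp_apply, he]
      exact (Scheme.range_fromSpecResidueField η).subset ⟨t, rfl⟩⟩
  · refine (pb_iff_of_isPullback (IsPullback.of_hasPullback f (pullback.fst g (toS k.left)))).mpr ?_
    have := pb_comp sqk.isoPullback.inv hk'
    rwa [sqk.isoPullback_inv_fst] at this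

theorem isIndConsMor_of_descends [Q.DescendsAlong (@Surjective ⊓ @Flat ⊓ @QuasiCompact)] (hQ : Descends Q qcqsfp) :
    ConsProp.IsIndConsMor (fun X Y T f g => Q f) := by
  refine ⟨isFieldStableMor_of_descendsAlong, fun X Y S f g _ _ _ _ _ _ hη => ?_⟩
  obtain ⟨B, a, _, _, hηa, hB⟩ := exists_spread_mor hQ f g hη
  haveI : IsLocallyNoetherian Y := LocallyOfFiniteType.isLocallyNoetherian g
  haveI : LocallyOfFiniteType f := locallyOfFiniteType_of_comp f g
  haveI : QuasiCompact f := QuasiCompact.of_comp f g
  have sqY := IsPullback.of_hasPullback g a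
  have sqf := IsPullback.of_hasPullback f (pullback.fst g a)
  have hloc := locus_baseChangeMor (P := fun X Y T f g => Q f) isFieldStableMor_of_descendsAlong sqY sqf
  have hsub : Set.range a ⊆ ConsProp.locusMor (fun X Y T f g => Q f) f g := by
    rintro _ ⟨r, rfl⟩
    haveI : IsNoetherian B :=
      haveI : CompactSpace B := QuasiCompact.compactSpace_of_compactSpace a
      haveI : IsLocallyNoetherian B := LocallyOfFiniteType.isLocallyNoetherian a
      {}
    exact hloc.le (MorphismProperty.of_isPullback
      (isPullback_fiberMap (pullback.snd f (pullback.fst g a)) (pullback.snd g a) r) hB)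
  haveI : LocallyOfFinitePresentation a := inferInstance
  have hc : IsLocallyConstructible (Set.range a) := by
    simpa [Set.image_univ] using a.isLocallyConstructible_image IsLocallyConstructible.univ
  exact ⟨_, interior_mono hsub (mem_interior_of_ind (isIndConstructible_of_isLocallyConstructible hc) hηa)⟩

end L02.ConsP
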