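import Groth.Agent.L19.Limit.Immersion
import Groth.Agent.L19.Limit.Finite
import Groth.Agent.L19.Limit.QuasiFinite
import Groth.Agent.L19.Limit.Proper
import Groth.Agent.L00.LimSurj
import Groth.Agent.L00.LimQuasiAffine

/-!
Properties of morphisms descending along limits, in the form used for pairs of algebraic schemes.
-/

set_option autoImplicit false
set_option linter.style.haveILetI false
set_option backward.isDefEq.respectTransparency.types false
set_option backward.isDefEq.respectTransparency false
universe u

open CategoryTheory CategoryTheory.Limits AlgebraicGeometry MorphismProperty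
open Groth.L19.Limit

namespace L02.ConsP

theorem descends_of_le {P Q Q' : MorphismProperty Scheme.{u}} (h : Descends P Q) (hle : Q' ≤ Q) :
    Descends P Q' := fun hc _ _ _ a ha hP => h hc a (hle _ ha) hP

theorem qcqsfp_le_qcqsft : qcqsfp.{u} ≤ qcqsft := fun _ _ f hf =>
  have : LocallyOfFinitePresentation f := hf.2
  ⟨hf.1, inferInstance⟩

theorem qcqsfp_le_qcqs : qcqsfp.{u} ≤ qcqs := fun _ _ _ hf => hf.1

theorem qcqsfp_le_diagonal : qcqsfp.{u} ≤ (qcqsfp.{u}).diagonal ⊓ @QuasiCompact := by
  intro X S a ha
  haveI : QuasiCompact a := ha.1.1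
  haveI : QuasiSeparated a := ha.1.2
  haveI : LocallyOfFinitePresentation a := ha.2
  haveI : LocallyOfFinitePresentation (pullback.diagonal a ≫ pullback.fst a a) := by
    rw [pullback.diagonal_fst]; infer_instance
  haveI : LocallyOfFiniteType (pullback.fst a a) :=
    MorphismProperty.pullback_fst (P := @LocallyOfFiniteType) _ _ inferInstance
  haveI : LocallyOfFinitePresentation (pullback.diagonal a) :=
    Groth.Agent.S12442.result (pullback.diagonal a) (pullback.fst a a)
  exact ⟨⟨⟨QuasiSeparated.quasiCompact_diagonal, inferInstance⟩, inferInstance⟩, inferInstance⟩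

theorem descends_isClosedImmersion' : Descends @IsClosedImmersion qcqsfp.{u} :=
  descends_of_le descends_isClosedImmersion qcqsfp_le_qcqsft

theorem descends_isImmersion' : Descends @IsImmersion qcqsfp.{u} :=
  descends_of_le descends_isImmersion qcqsfp_le_qcqsft

theorem descends_isFinite' : Descends @IsFinite qcqsfp.{u} :=
  descends_of_le descends_isFinite qcqsfp_le_qcqsft

theorem descends_isAffineHom' : Descends @IsAffineHom qcqsfp.{u} :=
  descends_of_le descends_isAffineHom qcqsfp_le_qcqs

theorem descends_qaff' : Descends Groth.L00.LimQuasiAffine.qaff qcqsfp.{u} :=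
  descends_of_le Groth.L00.LimQuasiAffine.descends qcqsfp_le_qcqs

theorem descends_mono' : Descends (monomorphisms Scheme.{u}) qcqsfp.{u} := by
  rw [← diagonal_isomorphisms]
  exact descends_of_le descends_isIso.diagonal qcqsfp_le_diagonal

theorem descends_isSeparated' : Descends @IsSeparated qcqsfp.{u} := by
  refine descends_of_le descends_isSeparated fun X S a ha => ?_
  have h := qcqsfp_le_diagonal a ha
  exact ⟨qcqsfp_le_qcqsft _ h.1, h.2⟩

/-- Quasi-finite morphisms. -/
def qfin : MorphismProperty Scheme.{u} := fun _ _ f =>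
  LocallyOfFiniteType f ∧ QuasiCompact f ∧ LocallyQuasiFinite f

instance : qfin.{u}.IsStableUnderBaseChange where
  of_isPullback sq h := ⟨MorphismProperty.of_isPullback sq h.1, MorphismProperty.of_isPullback sq h.2.1,
    MorphismProperty.of_isPullback sq h.2.2⟩

theorem descends_qfin : Descends qfin qcqsfp.{u} := by
  intro I _ _ D c _ hc i _ X a ha hP
  obtain ⟨j, φ, hj⟩ := descends_locallyQuasiFinite hc a (qcqsfp_le_qcqsft _ ha) hP.2.2
  exact ⟨j, φ, MorphismProperty.pullback_fst (P := @LocallyOfFiniteType) _ _ (qcqsfp_le_qcqsft _ ha).2,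
    MorphismProperty.pullback_fst (P := @QuasiCompact) _ _ ha.1.1, hj⟩

theorem descends_isProper : Descends @IsProper qcqsfp.{u} := by
  refine descends_of_affine ?_
  intro I _ _ D c _ _ hc i X a ha hP
  haveI : QuasiCompact a := ha.1.1
  haveI : QuasiSeparated a := ha.1.2
  haveI : LocallyOfFinitePresentation a := ha.2
  haveI : CompactSpace X := QuasiCompact.compactSpace_of_compactSpace a
  haveI : QuasiSeparatedSpace X := quasiSeparatedSpace_of_quasiSeparated a
  haveI : IsProper (pullback.fst (c.π.app i) a) := hP
  obtain ⟨j, hj⟩ := exists_isProper hc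
    (IsPullback.of_id_snd : IsPullback (c.π.app i) (𝟙 _) (𝟙 (D.obj i)) (c.π.app i))
    (IsPullback.of_hasPullback (c.π.app i) a).flip
  refine ⟨j.left, j.hom, ?_⟩
  have h := (pb_iff_of_isPullback (isPullback_stageHom a (𝟙 (D.obj i)) j)).mp hj
  have h' := pb_comp (inv (pullback.fst (D.map j.hom) (𝟙 (D.obj i)))) h
  rwa [show inv (pullback.fst (D.map j.hom) (𝟙 (D.obj i))) ≫ pullback.snd (D.map j.hom) (𝟙 (D.obj i)) =
    D.map j.hom by rw [IsIso.inv_comp_eq, pullback.condition, Category.comp_id]] at h'

end L02.ConsP
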