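import Groth.Agent.L02.ConsP.DescMor
import Groth.Agent.L02.ConsP.PairDescends
import Groth.Agent.L19.QADescent

/-!
Affine and quasi-affine morphisms on fibres: ind-constructible loci.
-/

set_option autoImplicit false
set_option linter.style.haveILetI false
set_option backward.isDefEq.respectTransparency.types false
set_option backward.isDefEq.respectTransparency false
universe u

open CategoryTheory CategoryTheory.Limits AlgebraicGeometry Topology

namespace L02.ConsP

instance : Groth.L00.LimQuasiAffine.qaff.{u}.DescendsAlong (@Surjective ⊓ @Flat ⊓ @QuasiCompact) where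
  of_isPullback h hf hfst := Groth.L19.QADescent.descend h hf hfst

theorem isIndConstructible_fibre_descends {Q : MorphismProperty Scheme.{u}} [Q.IsStableUnderBaseChange]
    [Q.DescendsAlong (@Surjective ⊓ @Flat ⊓ @QuasiCompact)]
    (hQ : Groth.L19.Limit.Descends Q Groth.L19.Limit.qcqsfp) {X Y S : Scheme.{u}} (f : X ⟶ Y) (g : Y ⟶ S)
    [LocallyOfFinitePresentation g] [QuasiCompact g] [QuasiSeparated g]
    [LocallyOfFinitePresentation (f ≫ g)] [QuasiCompact (f ≫ g)] [QuasiSeparated (f ≫ g)] :
    ProCons.IsIndConstructible {s : S |
      Q (pullback.lift (pullback.fst (f ≫ g) (S.fromSpecResidueField s) ≫ f)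
          (pullback.snd (f ≫ g) (S.fromSpecResidueField s)) ((Category.assoc _ _ _).trans pullback.condition) :
        pullback (f ≫ g) (S.fromSpecResidueField s) ⟶ pullback g (S.fromSpecResidueField s))} :=
  isIndConstructible_locusMor (isIndConsMor_of_descends hQ) f g

end L02.ConsP
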