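import Groth.Agent.L02.ConsP.Principle
import Groth.Agent.L16.AffineBC.Pullback
import Groth.Prelude.Def_EGA4Misc
import Groth.Prelude.Def_W4ega4s0809p4Pair

/-!
The loci of a field-stable relation commute with change of the base.
-/

set_option autoImplicit false
set_option linter.style.haveILetI false
set_option backward.isDefEq.respectTransparency.types false
set_option backward.isDefEq.respectTransparency false
universe u

open CategoryTheory CategoryTheory.Limits AlgebraicGeometry Topology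

namespace L02.ConsP

variable {X S X' S' : Scheme.{u}} {u₀ : X ⟶ S} {u' : X' ⟶ S'} {q : X' ⟶ X} {a : S' ⟶ S}

/-- The map of fibres induced by a square. -/
noncomputable def fib (w : q ≫ u₀ = u' ≫ a) (s' : S') : u'.fiber s' ⟶ u₀.fiber (a s') :=
  pullback.lift (u'.fiberι s' ≫ q) (u'.fiberToSpecResidueField s' ≫ Spec.map (a.residueFieldMap s')) (by
    rw [Category.assoc, w, ← Category.assoc, show u'.fiberι s' ≫ u' =
      u'.fiberToSpecResidueField s' ≫ S'.fromSpecResidueField s' from pullback.condition,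
      Category.assoc, Category.assoc, Scheme.Hom.SpecMap_residueFieldMap_fromSpecResidueField])

@[reassoc]
theorem fib_ι (w : q ≫ u₀ = u' ≫ a) (s' : S') : fib w s' ≫ u₀.fiberι (a s') = u'.fiberι s' ≫ q :=
  pullback.lift_fst _ _ _

theorem isPullback_fib (sq : IsPullback q u' u₀ a) (s' : S') :
    IsPullback (fib sq.w s') (u'.fiberToSpecResidueField s') (u₀.fiberToSpecResidueField (a s'))
      (Spec.map (a.residueFieldMap s')) := by
  refine IsPullback.of_right ?_ (pullback.lift_snd _ _ _)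
    (IsPullback.of_hasPullback u₀ (S.fromSpecResidueField (a s')))
  rw [show fib sq.w s' ≫ pullback.fst _ _ = u'.fiberι s' ≫ q from fib_ι sq.w s',
    Scheme.Hom.SpecMap_residueFieldMap_fromSpecResidueField]
  exact (IsPullback.of_hasPullback u' (S'.fromSpecResidueField s')).paste_horiz sq

theorem locus_baseChangeMod {P : ∀ ⦃Y T : Scheme.{u}⦄, (Y ⟶ T) → Y.Modules → Prop}
    (hP : ConsProp.IsFieldStableMod P) [LocallyOfFiniteType u₀] [QuasiCompact u₀]
    (sq : IsPullback q u' u₀ a) (F : X.Modules) [Coh.IsQCoh F] (hF : CohB1.IsFT F)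
    (F' : X'.Modules) (e : F' ≅ (Scheme.Modules.pullback q).obj F) :
    ConsProp.locusMod P u' F' = a ⁻¹' ConsProp.locusMod P u₀ F := by
  ext s'
  haveI : IsLocallyNoetherian (u₀.fiber (a s')) :=
    haveI : LocallyOfFiniteType (u₀.fiberToSpecResidueField (a s')) := MorphismProperty.pullback_snd _ _ ‹_›
    LocallyOfFiniteType.isLocallyNoetherian (u₀.fiberToSpecResidueField (a s'))
  haveI : LocallyOfFiniteType (u₀.fiberToSpecResidueField (a s')) := MorphismProperty.pullback_snd _ _ ‹_›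
  haveI : QuasiCompact (u₀.fiberToSpecResidueField (a s')) := MorphismProperty.pullback_snd _ _ ‹_›
  exact (hP _ _ (fib sq.w s') (Spec.map (a.residueFieldMap s')) (isPullback_fib sq s') _ _
    (Groth.L16.AffineBC.isCoh_pullback (u₀.fiberι (a s')) ⟨inferInstance, hF⟩)
    ((Scheme.Modules.pullback (u'.fiberι s')).mapIso e ≪≫ (Scheme.Modules.pullbackComp _ q).app F ≪≫
      (Scheme.Modules.pullbackCongr (fib_ι sq.w s').symm).app F ≪≫
      ((Scheme.Modules.pullbackComp (fib sq.w s') (u₀.fiberι (a s'))).app F).symm)).symm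

theorem locus_baseChangeMor {P : ∀ ⦃X Y T : Scheme.{u}⦄, (X ⟶ Y) → (Y ⟶ T) → Prop}
    (hP : ConsProp.IsFieldStableMor P) {Z Z' : Scheme.{u}} {f : Z ⟶ X} {f' : Z' ⟶ X'} {r : Z' ⟶ Z}
    [LocallyOfFiniteType u₀] [QuasiCompact u₀] [LocallyOfFiniteType (f ≫ u₀)] [QuasiCompact (f ≫ u₀)]
    (sq : IsPullback q u' u₀ a) (sqf : IsPullback r f' f q) :
    ConsProp.locusMor P f' u' = a ⁻¹' ConsProp.locusMor P f u₀ := by
  ext s'
  let s := a s'
  have sq2 : IsPullback r (f' ≫ u') (f ≫ u₀) a := sqf.paste_vert sq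
  have hm : ∀ (g : Z ⟶ X) (v : X ⟶ S) (t : S), MoreMor.fiberMap g v t ≫ v.fiberι t = (g ≫ v).fiberι t ≫ g ∧
      MoreMor.fiberMap g v t ≫ v.fiberToSpecResidueField t = (g ≫ v).fiberToSpecResidueField t :=
    fun g v t => ⟨pullback.lift_fst _ _ _, pullback.lift_snd _ _ _⟩
  have hm' : MoreMor.fiberMap f' u' s' ≫ u'.fiberι s' = (f' ≫ u').fiberι s' ≫ f' := pullback.lift_fst _ _ _
  have hm'' : MoreMor.fiberMap f' u' s' ≫ u'.fiberToSpecResidueField s' = (f' ≫ u').fiberToSpecResidueField s' :=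
    pullback.lift_snd _ _ _
  obtain ⟨hf1, hf2⟩ := hm f u₀ s
  have hf : IsPullback (fib sq2.w s') (MoreMor.fiberMap f' u' s') (MoreMor.fiberMap f u₀ s) (fib sq.w s') := by
    refine IsPullback.of_bot ?_ ?_ (isPullback_fib sq s')
    · rw [hf2, hm'']; exact isPullback_fib sq2 s'
    · refine pullback.hom_ext ?_ ?_
      · show _ ≫ u₀.fiberι s = _ ≫ u₀.fiberι s
        rw [Category.assoc, hf1, Category.assoc, fib_ι, fib_ι_assoc, sqf.w, ← Category.assoc,
          ← Category.assoc, hm']
      · show _ ≫ u₀.fiberToSpecResidueField s = _ ≫ u₀.fiberToSpecResidueField s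
        rw [Category.assoc, hf2, Category.assoc, show fib sq.w s' ≫ u₀.fiberToSpecResidueField s = _ from
          (isPullback_fib sq s').w, ← Category.assoc, hm'']
        exact (isPullback_fib sq2 s').w
  haveI : LocallyOfFiniteType (u₀.fiberToSpecResidueField s) := MorphismProperty.pullback_snd _ _ ‹_›
  haveI : QuasiCompact (u₀.fiberToSpecResidueField s) := MorphismProperty.pullback_snd _ _ ‹_›
  haveI : LocallyOfFiniteType (MoreMor.fiberMap f u₀ s ≫ u₀.fiberToSpecResidueField s) := by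
    rw [hf2]; exact MorphismProperty.pullback_snd _ _ ‹_›
  haveI : QuasiCompact (MoreMor.fiberMap f u₀ s ≫ u₀.fiberToSpecResidueField s) := by
    rw [hf2]; exact MorphismProperty.pullback_snd _ _ ‹_›
  exact (hP _ _ _ _ _ _ _ (isPullback_fib sq s') hf).symm

theorem locus_baseChangePair {P : ∀ ⦃X Y T : Scheme.{u}⦄, (X ⟶ T) → (Y ⟶ T) → Prop}
    (hP : ConsPropPair.IsFieldStablePair P) {Y Y' : Scheme.{u}} {v : Y ⟶ S} {v' : Y' ⟶ S'} {r : Y' ⟶ Y}
    [LocallyOfFiniteType u₀] [QuasiCompact u₀] [LocallyOfFiniteType v] [QuasiCompact v]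
    (sq : IsPullback q u' u₀ a) (sqv : IsPullback r v' v a) :
    ConsPropPair.locusPair P u' v' = a ⁻¹' ConsPropPair.locusPair P u₀ v := by
  ext s'
  haveI : LocallyOfFiniteType (u₀.fiberToSpecResidueField (a s')) := MorphismProperty.pullback_snd _ _ ‹_›
  haveI : QuasiCompact (u₀.fiberToSpecResidueField (a s')) := MorphismProperty.pullback_snd _ _ ‹_›
  haveI : LocallyOfFiniteType (v.fiberToSpecResidueField (a s')) := MorphismProperty.pullback_snd _ _ ‹_›
  haveI : QuasiCompact (v.fiberToSpecResidueField (a s')) := MorphismProperty.pullback_snd _ _ ‹_›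
  exact (hP _ _ _ _ _ _ _ (isPullback_fib sq s') (isPullback_fib sqv s')).symm

end L02.ConsP
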