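import Groth.Agent.L02.ConsP.Fibres
import Groth.Agent.L06.ProCons
import Groth.Agent.L02.Cons.Fibrewise

/-!
"`P` holds for every fibre" as a property of morphisms of algebraic schemes.
-/

set_option autoImplicit false
set_option linter.style.haveILetI false
set_option backward.isDefEq.respectTransparency.types false
set_option backward.isDefEq.respectTransparency false
universe u

open CategoryTheory CategoryTheory.Limits AlgebraicGeometry Topology

namespace L02.ConsP

variable {P : ∀ ⦃Y T : Scheme.{u}⦄, (Y ⟶ T) → Prop}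

theorem locus_baseChange (hP : ConsProp.IsFieldStable P) {X S X' S' : Scheme.{u}} {u₀ : X ⟶ S}
    {u' : X' ⟶ S'} {q : X' ⟶ X} {a : S' ⟶ S} [LocallyOfFiniteType u₀] [QuasiCompact u₀]
    (sq : IsPullback q u' u₀ a) : ConsProp.locus P u' = a ⁻¹' ConsProp.locus P u₀ := by
  ext s'
  haveI : LocallyOfFiniteType (u₀.fiberToSpecResidueField (a s')) := MorphismProperty.pullback_snd _ _ ‹_›
  haveI : QuasiCompact (u₀.fiberToSpecResidueField (a s')) := MorphismProperty.pullback_snd _ _ ‹_›
  exact (hP _ _ _ _ (isPullback_fib sq s')).symm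

theorem isField_Γ_of_subsingleton (T : Scheme.{u}) [IsIntegral T] [Subsingleton T] : IsField Γ(T, ⊤) := by
  haveI : Nonempty T := IsIntegral.nonempty
  refine ⟨exists_pair_ne _, mul_comm, fun {a} ha => ?_⟩
  have hu : IsUnit a := by
    refine RingedSpace.isUnit_of_isUnit_germ T.toLocallyRingedSpace.toSheafedSpace ⊤ a fun x hx => ?_
    obtain rfl : x = genericPoint T := Subsingleton.elim _ _
    letI : Field (T.presheaf.stalk (genericPoint T)) := inferInstanceAs (Field T.functionField)
    exact Ne.isUnit (fun h0 => ha (germ_injective_of_isIntegral T (genericPoint T) hx (h0.trans (map_zero _).symm)))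
  exact hu.exists_right_inv

theorem isAffine_of_point (T : Scheme.{u}) [IsIntegral T] [Subsingleton T] : IsAffine T := by
  obtain ⟨t⟩ : Nonempty T := IsIntegral.nonempty
  obtain ⟨U, hU, htU, -⟩ := exists_isAffineOpen_mem_and_subset (X := T) (x := t) (U := ⊤) trivial
  obtain rfl : U = ⊤ := top_le_iff.1 fun x _ => (Subsingleton.elim t x) ▸ htU
  haveI : IsAffine _ := hU
  exact IsAffine.of_isIso T.topIso.inv

theorem isLocallyNoetherian_of_field_base {Y T : Scheme.{u}} [IsIntegral T] [Subsingleton T] (g : Y ⟶ T)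
    [LocallyOfFiniteType g] : IsLocallyNoetherian Y := by
  haveI : Nonempty T := IsIntegral.nonempty
  haveI : IsAffine T := isAffine_of_point T
  letI : Field Γ(T, ⊤) := (isField_Γ_of_subsingleton T).toField
  haveI : IsLocallyNoetherian T :=
    isLocallyNoetherian_of_affine_cover (S := fun _ : PUnit.{u+1} => ⟨⊤, isAffineOpen_top T⟩) (by simp)
      fun _ => inferInstanceAs (IsNoetherianRing Γ(T, ⊤))
  exact LocallyOfFiniteType.isLocallyNoetherian g

theorem isFieldStableMor_forall (hP : ConsProp.IsFieldStable P) :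
    ConsProp.IsFieldStableMor (fun X Y T f g => ∀ y : ↥Y, P (f.fiberToSpecResidueField y)) := by
  intro X X' Y Y' T T' f g f' g' eX eY h _ _ _ _ _ _ _ _ sqY sqX
  haveI : IsLocallyNoetherian Y := isLocallyNoetherian_of_field_base g
  haveI : LocallyOfFiniteType f := locallyOfFiniteType_of_comp f g
  haveI : QuasiCompact f := QuasiCompact.of_comp f g
  haveI : Surjective h := ⟨fun t => ⟨Classical.arbitrary _, Subsingleton.elim _ _⟩⟩
  haveI : Surjective eY := MorphismProperty.of_isPullback sqY.flip ‹_›
  have he := locus_baseChange hP sqX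
  constructor
  · intro H y'
    exact (he.ge (show y' ∈ eY ⁻¹' ConsProp.locus P f from H _) : y' ∈ ConsProp.locus P f')
  · intro H y
    obtain ⟨y', rfl⟩ := eY.surjective y
    exact he.le (show y' ∈ ConsProp.locus P f' from H y')

variable {X Y S : Scheme.{u}} (f : X ⟶ Y) (g : Y ⟶ S) [IsNoetherian S] [LocallyOfFiniteType g] [QuasiCompact g]
  [LocallyOfFiniteType (f ≫ g)] [QuasiCompact (f ≫ g)]

theorem isPullback_fiberMap (s : S) :
    IsPullback ((f ≫ g).fiberι s) (MoreMor.fiberMap f g s) f (g.fiberι s) := by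
  refine IsPullback.of_bot ?_ (pullback.lift_fst _ _ _).symm (IsPullback.of_hasPullback g (S.fromSpecResidueField s))
  rw [show MoreMor.fiberMap f g s ≫ pullback.snd g (S.fromSpecResidueField s) = (f ≫ g).fiberToSpecResidueField s
    from pullback.lift_snd _ _ _]
  exact IsPullback.of_hasPullback (f ≫ g) (S.fromSpecResidueField s)

theorem locusMor_forall (hP : ConsProp.IsFieldStable P) :
    ConsProp.locusMor (fun X Y T f g => ∀ y : ↥Y, P (f.fiberToSpecResidueField y)) f g =
      (g '' (ConsProp.locus P f)ᶜ)ᶜ := by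
  haveI : IsLocallyNoetherian Y := LocallyOfFiniteType.isLocallyNoetherian g
  haveI : LocallyOfFiniteType f := locallyOfFiniteType_of_comp f g
  haveI : QuasiCompact f := QuasiCompact.of_comp f g
  ext s
  have he := locus_baseChange hP (isPullback_fiberMap f g s)
  constructor
  · rintro H ⟨y, hy, rfl⟩
    obtain ⟨y', hy'⟩ := (g.range_fiberι (g y)).ge (show y ∈ g ⁻¹' {g y} from rfl)
    refine hy ?_
    rw [← hy']
    exact (he.le (show y' ∈ ConsProp.locus P _ from H y'))
  · intro H y'
    refine he.ge (show g.fiberι s y' ∈ ConsProp.locus P f from not_not.1 fun hy => H ⟨_, hy, ?_⟩)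
    exact (g.range_fiberι s).le ⟨y', rfl⟩

theorem isConsMor_forall (hP : ConsProp.IsCons P) :
    ConsProp.IsConsMor (fun X Y T f g => ∀ y : ↥Y, P (f.fiberToSpecResidueField y)) := by
  refine ⟨isFieldStableMor_forall hP.1, fun X Y S f g _ _ _ _ _ _ => ?_⟩
  haveI : IsLocallyNoetherian Y := LocallyOfFiniteType.isLocallyNoetherian g
  haveI : LocallyOfFiniteType f := locallyOfFiniteType_of_comp f g
  haveI : QuasiCompact f := QuasiCompact.of_comp f g
  haveI : CompactSpace Y := QuasiCompact.compactSpace_of_compactSpace g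
  haveI : IsNoetherian Y := {}
  haveI : LocallyOfFinitePresentation g := inferInstance
  rw [locusMor_forall f g hP.1]
  have hE : IsConstructible (ConsProp.locus P f) := isConstructible_of_integral_closed _ fun T _ _ i _ => by
    haveI : LocallyOfFiniteType (pullback.snd f i) := MorphismProperty.pullback_snd _ _ ‹_›
    haveI : QuasiCompact (pullback.snd f i) := MorphismProperty.pullback_snd _ _ ‹_›
    have := hP.2 (pullback.snd f i)
    rwa [locus_baseChange hP.1 (IsPullback.of_hasPullback f i)] at this
  have hI := g.isLocallyConstructible_image hE.compl.isLocallyConstructible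
  have hIc : IsLocallyConstructible (g '' (ConsProp.locus P f)ᶜ)ᶜ := hI.isConstructible.compl.isLocallyConstructible
  by_cases hη : genericPoint S ∈ g '' (ConsProp.locus P f)ᶜ
  · exact Or.inr ⟨_, by rw [compl_compl]; exact mem_interior_of_ind (isIndConstructible_of_isLocallyConstructible hI) hη⟩
  · exact Or.inl ⟨_, mem_interior_of_ind (isIndConstructible_of_isLocallyConstructible hIc) hη⟩

theorem isIndConsMor_forall (hP : ConsProp.IsIndCons P) :
    ConsProp.IsIndConsMor (fun X Y T f g => ∀ y : ↥Y, P (f.fiberToSpecResidueField y)) := by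
  refine ⟨isFieldStableMor_forall hP.1, fun X Y S f g _ _ _ _ _ _ hη => ?_⟩
  haveI : IsLocallyNoetherian Y := LocallyOfFiniteType.isLocallyNoetherian g
  haveI : LocallyOfFiniteType f := locallyOfFiniteType_of_comp f g
  haveI : QuasiCompact f := QuasiCompact.of_comp f g
  haveI : CompactSpace Y := QuasiCompact.compactSpace_of_compactSpace g
  haveI : IsNoetherian Y := {}
  rw [locusMor_forall f g hP.1] at hη ⊢
  have hE := eq_sUnion_of_integral_closed (ConsProp.locus P f) fun T _ _ i _ h => by
    haveI : LocallyOfFiniteType (pullback.snd f i) := MorphismProperty.pullback_snd _ _ ‹_›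
    haveI : QuasiCompact (pullback.snd f i) := MorphismProperty.pullback_snd _ _ ‹_›
    have := hP.2 (pullback.snd f i)
    rw [locus_baseChange hP.1 (IsPullback.of_hasPullback f i)] at this
    exact this h
  have hcc : Groth.L19.Limit.CC (ConsProp.locus P f)ᶜ := by
    rw [show (ConsProp.locus P f)ᶜ = ⋂ C : {C : Set Y // IsConstructible C ∧ C ⊆ ConsProp.locus P f}, C.1ᶜ from
      Set.ext fun y => ⟨fun hy => Set.mem_iInter.2 fun C hC => hy (C.2.2 hC), fun hy hyE =>
        (hE y hyE).elim fun C hC => Set.mem_iInter.1 hy ⟨C, hC.1, hC.2.2⟩ hC.2.1⟩]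
    exact Groth.L19.Limit.CC.iInter fun C => Groth.L19.Limit.cc_compl_of_isConstructible C.2.1
  refine ⟨genericPoint S, ?_⟩
  rw [interior_compl]
  intro hcl
  obtain ⟨e, he, hes⟩ := Groth.L19.Limit.CC.exists_specializes_of_mem_closure
    (Groth.L06.ProCons.cc_image g hcc) hcl
  obtain rfl : e = genericPoint S := (hes.antisymm ((genericPoint_spec S).specializes trivial)).eq
  exact hη he

end L02.ConsP
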