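import Groth.Agent.L17.Approx.Model
import Groth.Agent.L05.DescendFP

/-!
Noetherian models of finitely presented data over affine bases.
-/

set_option autoImplicit false
set_option linter.style.haveILetI false
set_option backward.isDefEq.respectTransparency false

universe u

open CategoryTheory CategoryTheory.Limits AlgebraicGeometry TopologicalSpace Opposite TensorProduct

noncomputable section

namespace L02.ConsP

open Groth.L18.Frame (rs ro rs_rs rs_self rs_smul ro_ro ro_self pull pull_rs pull_smul)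
open Groth.L17.BC (act Sec)
open Groth.L17.Approx (exists_sum_coeff exists_submodule_finset app_pull_adjoint span_pull_eq_top exists_model_of_relations)
open Groth.L19.Limit (bcDiagram toStage toStage_fst toStage_snd isLimitSqCone sqCone)

variable {A : Type u} [CommRing A]

local notation "π₀" A₀:max => Spec.map (CommRingCat.ofHom (algebraMap (↥A₀) A))

theorem isNoetherianRing_of_fg {A₀ : Subalgebra ℤ A} (h : A₀.FG) : IsNoetherianRing A₀ :=
  haveI : Algebra.FiniteType ℤ A₀ := A₀.fg_iff_finiteType.mp h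
  Algebra.FiniteType.isNoetherianRing ℤ A₀

/-- A model of a scheme. -/
theorem exists_model {X : Scheme.{u}} (f : X ⟶ Spec (CommRingCat.of A)) [QuasiCompact f] [QuasiSeparated f]
    [LocallyOfFinitePresentation f] :
    ∃ A₀ : Subalgebra ℤ A, A₀.FG ∧
      ∃ (X₀ : Scheme.{u}) (f₀ : X₀ ⟶ Spec (CommRingCat.of ↥A₀)) (g : X ⟶ X₀),
        QuasiCompact f₀ ∧ QuasiSeparated f₀ ∧ LocallyOfFinitePresentation f₀ ∧
          IsPullback g f f₀ (π₀ A₀) := by
  haveI : ∀ i, CompactSpace ((Groth.L05.ModelFG.specDiagram A).obj i) :=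
    fun i => inferInstanceAs (CompactSpace (Spec _))
  haveI : ∀ i, QuasiSeparatedSpace ((Groth.L05.ModelFG.specDiagram A).obj i) :=
    fun i => inferInstanceAs (QuasiSeparatedSpace (Spec _))
  let f' : X ⟶ (Groth.L05.ModelFG.specCone A).pt := f
  haveI : QuasiCompact f' := ‹QuasiCompact f›
  haveI : QuasiSeparated f' := ‹QuasiSeparated f›
  haveI : LocallyOfFinitePresentation f' := ‹LocallyOfFinitePresentation f›
  obtain ⟨j, Xj, fj, g, h1, h2, h3, sq⟩ :=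
    Groth.L05.DescendFP.exists_stage (Groth.L05.ModelFG.isLimitSpecCone A) f'
  exact ⟨j.unop.1, j.unop.2, Xj, fj, g, h2, h3, h1, sq⟩

/-- Enlarging the subring. -/
theorem exists_stage {A₀ A₁ : Subalgebra ℤ A} (hle : A₀ ≤ A₁) {X X₀ : Scheme.{u}}
    (f : X ⟶ Spec (CommRingCat.of A)) (f₀ : X₀ ⟶ Spec (CommRingCat.of ↥A₀)) [QuasiCompact f₀] [QuasiSeparated f₀]
    [LocallyOfFinitePresentation f₀] (g : X ⟶ X₀)
    (sq : IsPullback g f f₀ (Spec.map (CommRingCat.ofHom (algebraMap (↥A₀) A)))) :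
    ∃ (X₁ : Scheme.{u}) (f₁ : X₁ ⟶ Spec (CommRingCat.of ↥A₁)) (g₁ : X ⟶ X₁) (h : X₁ ⟶ X₀),
      QuasiCompact f₁ ∧ QuasiSeparated f₁ ∧ LocallyOfFinitePresentation f₁ ∧
      IsPullback g₁ f f₁ (Spec.map (CommRingCat.ofHom (algebraMap (↥A₁) A))) ∧
      IsPullback h f₁ f₀ (Spec.map (CommRingCat.ofHom (Subalgebra.inclusion hle).toRingHom)) ∧
      g₁ ≫ h = g := by
  let φ := Spec.map (CommRingCat.ofHom (Subalgebra.inclusion hle).toRingHom)
  let ψ := Spec.map (CommRingCat.ofHom (algebraMap (↥A₁) A))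
  have hψφ : ψ ≫ φ = Spec.map (CommRingCat.ofHom (algebraMap (↥A₀) A)) := by
    rw [← Spec.map_comp]; rfl
  refine ⟨pullback φ f₀, pullback.fst φ f₀, pullback.lift (f ≫ ψ) g (by rw [Category.assoc, hψφ]; exact sq.w.symm),
    pullback.snd φ f₀, MorphismProperty.pullback_fst _ _ ‹_›, MorphismProperty.pullback_fst _ _ ‹_›, MorphismProperty.pullback_fst _ _ ‹_›, ?_,
    (IsPullback.of_hasPullback φ f₀).flip, pullback.lift_snd _ _ _⟩
  exact IsPullback.of_right (by rw [pullback.lift_snd, hψφ]; exact sq) (pullback.lift_fst _ _ _)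
    (IsPullback.of_hasPullback φ f₀).flip

/-- A coherent model of a finitely presented module over a given model of the scheme. -/
theorem exists_coherent_model_over {X : Scheme.{u}} (f : X ⟶ Spec (CommRingCat.of A)) [QuasiCompact f] [QuasiSeparated f]
    [LocallyOfFinitePresentation f] (F : X.Modules) (hfp : CohB1.IsFP F) [Coh.IsQCoh F]
    {A₀ : Subalgebra ℤ A} (hA₀ : A₀.FG) {X₀ : Scheme.{u}} (f₀ : X₀ ⟶ Spec (CommRingCat.of ↥A₀))
    [QuasiCompact f₀] [QuasiSeparated f₀] [LocallyOfFinitePresentation f₀] (g : X ⟶ X₀)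
    (sq : IsPullback g f f₀ (Spec.map (CommRingCat.ofHom (algebraMap (↥A₀) A)))) :
    ∃ (A₁ : Subalgebra ℤ A) (hle : A₀ ≤ A₁), A₁.FG ∧
      ∃ (X₁ : Scheme.{u}) (f₁ : X₁ ⟶ Spec (CommRingCat.of ↥A₁)) (g₁ : X ⟶ X₁) (h : X₁ ⟶ X₀) (F₁ : X₁.Modules),
        QuasiCompact f₁ ∧ QuasiSeparated f₁ ∧ LocallyOfFinitePresentation f₁ ∧ Coh.IsCoh F₁ ∧
          IsPullback g₁ f f₁ (Spec.map (CommRingCat.ofHom (algebraMap (↥A₁) A))) ∧
          IsPullback h f₁ f₀ (Spec.map (CommRingCat.ofHom (Subalgebra.inclusion hle).toRingHom)) ∧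
          g₁ ≫ h = g ∧
          Nonempty ((Scheme.Modules.pullback g₁).obj F₁ ≅ F) := by
  classical
  haveI : Algebra.FiniteType ℤ A₀ := A₀.fg_iff_finiteType.mp hA₀
  haveI : IsNoetherianRing A₀ := Algebra.FiniteType.isNoetherianRing ℤ A₀
  haveI : IsLocallyNoetherian X₀ := LocallyOfFiniteType.isLocallyNoetherian f₀
  haveI : CompactSpace X₀ := QuasiCompact.compactSpace_of_compactSpace f₀
  haveI : QuasiSeparatedSpace X₀ := quasiSeparatedSpace_of_quasiSeparated f₀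
  haveI := Groth.L17.BC.isAffineHom_of_isPullback f₀ f g sq
  haveI : Coh.IsQCoh ((Scheme.Modules.pushforward g).obj F) := Groth.L16.QcqsPush.isQCoh_push F g
  let 𝒰 := X₀.affineCover.finiteSubcover
  haveI : Fintype 𝒰.I₀ := Fintype.ofFinite _
  let W : 𝒰.I₀ → X₀.Opens := fun k => (𝒰.f k).opensRange
  have hW : ∀ k, IsAffineOpen (W k) := fun k => by
    haveI : IsAffine (𝒰.X k) := inferInstanceAs (IsAffine (Spec _))
    exact isAffineOpen_opensRange _
  have hcov' : ∀ x : X, ∃ k, g x ∈ W k := fun x => ⟨_, (𝒰.exists_eq (g x)).choose_spec⟩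
  have hfpk : ∀ k, Module.FinitePresentation Γ(X, g ⁻¹ᵁ W k) Γ(F, g ⁻¹ᵁ W k) := fun k =>
    Groth.L20.ModStalk.finitePresentation_sections F hfp ((hW k).preimage g)
  choose nF tF htF using fun k =>
    (haveI := hfpk k; Module.Finite.fg_top : (⊤ : Submodule Γ(X, g ⁻¹ᵁ W k) Γ(F, g ⁻¹ᵁ W k)).FG) |>
      Submodule.fg_iff_exists_fin_generating_family.1
  obtain ⟨G₀, i, -, hG₀, hi⟩ := exists_submodule_finset ((Scheme.Modules.pushforward g).obj F) W
    (fun k => (hW k).isCompact) (fun k => ULift.{u} (Fin (nF k))) (fun k q => (tF k q.down : Γ(F, g ⁻¹ᵁ W k)))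
    Finset.univ
  haveI : Coh.IsQCoh G₀ := hG₀.1
  choose n m hm using fun k =>
    (Groth.L20.ModStalk.finite_sections G₀ hG₀ (hW k)).fg_top |> Submodule.fg_iff_exists_fin_generating_family.1
  let t : ∀ k, Fin (n k) → Γ(F, g ⁻¹ᵁ W k) := fun k q => i.app (W k) (m k q)
  have ht : ∀ k, Submodule.span Γ(X, g ⁻¹ᵁ W k) (Set.range (t k)) = ⊤ := by
    intro k
    refine eq_top_iff.2 ((htF k).ge.trans (Submodule.span_le.2 ?_))
    rintro _ ⟨q, rfl⟩
    obtain ⟨y, hy⟩ := hi k (Finset.mem_univ _) ⟨q⟩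
    have hym : y ∈ Submodule.span Γ(X₀, W k) (Set.range (m k)) := hm k ▸ Submodule.mem_top
    obtain ⟨c, rfl⟩ := (Submodule.mem_span_range_iff_exists_fun _).1 hym
    have e : i.app (W k) (∑ a, c a • m k a) = (∑ a, g.app (W k) (c a) • t k a : Γ(F, g ⁻¹ᵁ W k)) :=
      (map_sum _ _ _).trans (Finset.sum_congr rfl fun a _ => i.app_smul _ _)
    show tF k q ∈ _
    rw [show tF k q = _ from hy.symm.trans e]
    exact Submodule.sum_mem _ fun a _ => Submodule.smul_mem _ _ (Submodule.subset_span ⟨a, rfl⟩)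
  have hR : ∀ k, (LinearMap.ker (Fintype.linearCombination Γ(X, g ⁻¹ᵁ W k) (t k))).FG := fun k => by
    haveI := hfpk k
    refine Module.FinitePresentation.fg_ker _ (LinearMap.range_eq_top.1 ?_)
    rw [Fintype.range_linearCombination]
    exact ht k
  choose nR R hR' using fun k => Submodule.fg_iff_exists_fin_generating_family.1 (hR k)
  choose N a c hb using fun k (j : Fin (nR k)) (q : Fin (n k)) =>
    exists_sum_coeff f f₀ g sq (hW k) (R k j q)
  let S : Finset A := Finset.univ.biUnion fun k => Finset.univ.biUnion fun j => Finset.univ.biUnion fun q =>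
    Finset.univ.image (a k j q)
  let A₁ : Subalgebra ℤ A := A₀ ⊔ Algebra.adjoin ℤ (S : Set A)
  have hA₁ : A₁.FG := hA₀.sup ⟨S, rfl⟩
  have haS : ∀ k j q l, a k j q l ∈ A₁ := fun k j q l =>
    (le_sup_right : Algebra.adjoin ℤ (S : Set A) ≤ A₁) (Algebra.subset_adjoin (by
      simp only [S, Finset.coe_biUnion, Set.mem_iUnion, Finset.mem_coe, Finset.mem_image, Finset.mem_univ,
        true_and, exists_prop]
      exact ⟨k, j, q, l, rfl⟩))
  haveI : Algebra.FiniteType ℤ A₁ := A₁.fg_iff_finiteType.mp hA₁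
  haveI : IsNoetherianRing A₁ := Algebra.FiniteType.isNoetherianRing ℤ A₁
  obtain ⟨X₁, f₁, g₁, h, hf₁, hqs₁, hlfp₁, sq₁, sqh, hgh⟩ := exists_stage (le_sup_left : A₀ ≤ A₁) f f₀ g sq
  subst hgh
  haveI := hf₁; haveI := hqs₁; haveI := hlfp₁
  haveI : IsLocallyNoetherian X₁ := LocallyOfFiniteType.isLocallyNoetherian f₁
  haveI := Groth.L17.BC.isAffineHom_of_isPullback f₁ f g₁ sq₁
  haveI : IsAffineHom h := MorphismProperty.of_isPullback (P := @IsAffineHom) sqh.flip inferInstance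
  let G₁ := (Scheme.Modules.pullback h).obj G₀
  haveI : Coh.IsQCoh G₁ := Groth.L16.AffineBC.isQCoh_pullback h G₀
  let adj := Scheme.Modules.pullbackPushforwardAdjunction h
  let i' : G₀ ⟶ (Scheme.Modules.pushforward h).obj ((Scheme.Modules.pushforward g₁).obj F) :=
    i ≫ (Scheme.Modules.pushforwardComp g₁ h).inv.app F
  let θ : G₁ ⟶ (Scheme.Modules.pushforward g₁).obj F := (adj.homEquiv G₀ _).symm i'
  have hθ : ∀ k q, θ.app (h ⁻¹ᵁ W k) (pull h G₀ (W k) (m k q)) = t k q := fun k q =>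
    (app_pull_adjoint h i' (W k) (m k q)).trans rfl
  let ρ₁ := Coh.toGlobal f₁
  let r : ∀ k, Fin (nR k) → Fin (n k) → Γ(X₁, h ⁻¹ᵁ W k) := fun k j q =>
    ∑ l, act ρ₁ (h ⁻¹ᵁ W k) ⟨a k j q l, haS k j q l⟩ * h.app (W k) (c k j q l)
  have hr : ∀ k j q, g₁.app (h ⁻¹ᵁ W k) (r k j q) = R k j q := by
    intro k j q
    rw [hb k j q, map_sum]
    refine Finset.sum_congr rfl fun l _ => ?_
    rw [map_mul]
    refine congrArg₂ (· * ·) ?_ rfl
    exact ((ro_self _ _).symm.trans (Groth.L17.BC.app_act g₁ ρ₁ (Coh.toGlobal f) (W := g₁ ⁻¹ᵁ h ⁻¹ᵁ W k) le_rfl _ _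
      (Groth.L17.BC.compat_of_isPullback f₁ f g₁ sq₁ ⟨a k j q l, haS k j q l⟩)))
  have hθr : ∀ k j, θ.app (h ⁻¹ᵁ W k) (∑ q, r k j q • pull h G₀ (W k) (m k q)) = 0 := by
    intro k j
    have hker : (Fintype.linearCombination Γ(X, (g₁ ≫ h) ⁻¹ᵁ W k) (t k)) (R k j) = 0 := by
      have : R k j ∈ LinearMap.ker (Fintype.linearCombination Γ(X, (g₁ ≫ h) ⁻¹ᵁ W k) (t k)) :=
        hR' k ▸ Submodule.subset_span ⟨j, rfl⟩
      exact this
    refine ((map_sum _ _ _).trans (Finset.sum_congr rfl fun q _ => ?_)).trans hker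
    refine (θ.app_smul _ _).trans ?_
    rw [hθ]
    show (show Γ(X, (g₁ ≫ h) ⁻¹ᵁ W k) from g₁.app (h ⁻¹ᵁ W k) (r k j q)) • t k q = _
    rw [hr k j q]
  obtain ⟨F₁, hF₁, hFT, hiso⟩ := exists_model_of_relations g₁ G₁ F θ (fun k => h ⁻¹ᵁ W k)
    (fun k => (hW k).preimage h) hcov' n (fun k q => pull h G₀ (W k) (m k q))
    (fun k => span_pull_eq_top h G₀ (hW k) (m k) (hm k)) (fun k => ULift.{u} (Fin (nR k)))
    (fun k j => r k j.down) (fun k j => hθr k j.down)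
    (fun k => by
      rw [show (fun q => (show Γ(F, g₁ ⁻¹ᵁ (h ⁻¹ᵁ W k)) from θ.app (h ⁻¹ᵁ W k) (pull h G₀ (W k) (m k q)))) =
        t k from funext (hθ k)]
      exact ht k)
    (fun k β hβ => by
      have hβ' : β ∈ LinearMap.ker (Fintype.linearCombination Γ(X, (g₁ ≫ h) ⁻¹ᵁ W k) (t k)) := by
        show ∑ q, (show Γ(X, (g₁ ≫ h) ⁻¹ᵁ W k) from β q) • t k q = 0
        refine Eq.trans ?_ hβ
        exact Finset.sum_congr rfl fun q _ => congrArg (fun z => (show Γ(X, (g₁ ≫ h) ⁻¹ᵁ W k) from β q) • (show Γ(F, (g₁ ≫ h) ⁻¹ᵁ W k) from z)) (hθ k q).symm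
      rw [← hR' k] at hβ'
      refine Submodule.span_mono ?_ hβ'
      rintro _ ⟨j, rfl⟩
      exact ⟨⟨j⟩, funext (hr k j)⟩)
  exact ⟨A₁, le_sup_left, hA₁, X₁, f₁, g₁, h, F₁, hf₁, hqs₁, hlfp₁,
    ⟨hF₁, hFT (Groth.L16.AffineBC.isCoh_pullback h hG₀).2⟩, sq₁, sqh, rfl, hiso⟩

/-- A coherent model of a finitely presented module. -/
theorem exists_coherent_model {X : Scheme.{u}} (f : X ⟶ Spec (CommRingCat.of A)) [QuasiCompact f] [QuasiSeparated f]
    [LocallyOfFinitePresentation f] (F : X.Modules) (hfp : CohB1.IsFP F) [Coh.IsQCoh F] :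
    ∃ A₁ : Subalgebra ℤ A, A₁.FG ∧
      ∃ (X₁ : Scheme.{u}) (f₁ : X₁ ⟶ Spec (CommRingCat.of ↥A₁)) (g₁ : X ⟶ X₁) (F₁ : X₁.Modules),
        QuasiCompact f₁ ∧ QuasiSeparated f₁ ∧ LocallyOfFinitePresentation f₁ ∧ Coh.IsCoh F₁ ∧
          IsPullback g₁ f f₁ (Spec.map (CommRingCat.ofHom (algebraMap (↥A₁) A))) ∧
          Nonempty ((Scheme.Modules.pullback g₁).obj F₁ ≅ F) := by
  obtain ⟨A₀, hA₀, X₀, f₀, g, hf₀, hqs₀, hlfp, sq⟩ := exists_model f
  haveI := hf₀; haveI := hqs₀; haveI := hlfp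
  obtain ⟨A₁, -, hA₁, X₁, f₁, g₁, -, F₁, h1, h2, h3, h4, sq₁, -, -, hiso⟩ :=
    exists_coherent_model_over f F hfp hA₀ f₀ g sq
  exact ⟨A₁, hA₁, X₁, f₁, g₁, F₁, h1, h2, h3, h4, sq₁, hiso⟩


/-- A model of a morphism. -/
theorem exists_model_mor {X Y : Scheme.{u}} (f : X ⟶ Y) (g : Y ⟶ Spec (CommRingCat.of A))
    [QuasiCompact g] [QuasiSeparated g] [LocallyOfFinitePresentation g]
    [QuasiCompact (f ≫ g)] [QuasiSeparated (f ≫ g)] [LocallyOfFinitePresentation (f ≫ g)] :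
    ∃ A₀ : Subalgebra ℤ A, A₀.FG ∧
      ∃ (X₀ Y₀ : Scheme.{u}) (f₀ : X₀ ⟶ Y₀) (g₀ : Y₀ ⟶ Spec (CommRingCat.of ↥A₀)) (qX : X ⟶ X₀) (qY : Y ⟶ Y₀),
        QuasiCompact g₀ ∧ LocallyOfFiniteType g₀ ∧ QuasiCompact (f₀ ≫ g₀) ∧ LocallyOfFiniteType (f₀ ≫ g₀) ∧
          IsPullback qY g g₀ (π₀ A₀) ∧ IsPullback qX f f₀ qY := by
  obtain ⟨A₀, hA₀, Y₀, g₀, q, h1, h2, h3, sq⟩ := exists_model g
  let D := Groth.L05.ModelFG.specDiagram A
  let i : (Groth.L05.ModelFG.FG A)ᵒᵖ := op ⟨A₀, hA₀⟩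
  let g₀' : Y₀ ⟶ D.obj i := g₀
  haveI : QuasiCompact g₀' := h1
  haveI : QuasiSeparated g₀' := h2
  haveI : LocallyOfFinitePresentation g₀' := h3
  have sq' : IsPullback q (show Y ⟶ (Groth.L05.ModelFG.specCone A).pt from g) g₀'
      ((Groth.L05.ModelFG.specCone A).π.app i) := sq
  haveI : ∀ k : Over i, CompactSpace ((bcDiagram D g₀').obj k) := fun k =>
    haveI : QuasiCompact (pullback.fst (D.map k.hom) g₀') := MorphismProperty.pullback_fst _ _ ‹_›
    haveI : CompactSpace (D.obj k.left) := inferInstanceAs (CompactSpace (Spec _))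
    QuasiCompact.compactSpace_of_compactSpace (pullback.fst (D.map k.hom) g₀')
  haveI : ∀ k : Over i, QuasiSeparatedSpace ((bcDiagram D g₀').obj k) := fun k =>
    haveI : QuasiSeparated (pullback.fst (D.map k.hom) g₀') := MorphismProperty.pullback_fst _ _ ‹_›
    haveI : QuasiSeparatedSpace (D.obj k.left) := inferInstanceAs (QuasiSeparatedSpace (Spec _))
    quasiSeparatedSpace_of_quasiSeparated (pullback.fst (D.map k.hom) g₀')
  haveI : LocallyOfFinitePresentation f := Groth.Agent.S12442.result f g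
  haveI : QuasiCompact f := QuasiCompact.of_comp f g
  haveI : QuasiSeparated f := QuasiSeparated.of_comp f g
  let f' : X ⟶ (sqCone sq').pt := f
  haveI : LocallyOfFinitePresentation f' := ‹LocallyOfFinitePresentation f›
  haveI : QuasiCompact f' := ‹QuasiCompact f›
  haveI : QuasiSeparated f' := ‹QuasiSeparated f›
  obtain ⟨k, Xk, fk, qX, k1, k2, k3, sqX⟩ :=
    Groth.L05.DescendFP.exists_stage (isLimitSqCone (Groth.L05.ModelFG.isLimitSpecCone A) sq') f'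
  haveI : QuasiCompact (pullback.fst (D.map k.hom) g₀') := MorphismProperty.pullback_fst _ _ ‹_›
  haveI : LocallyOfFinitePresentation (pullback.fst (D.map k.hom) g₀') := MorphismProperty.pullback_fst _ _ ‹_›
  refine ⟨k.left.unop.1, k.left.unop.2, Xk, _, fk, pullback.fst (D.map k.hom) g₀', qX, toStage sq' k,
    ‹QuasiCompact (pullback.fst (D.map k.hom) g₀')›, inferInstance, inferInstance, inferInstance, ?_, sqX⟩
  exact IsPullback.of_right (by
      show IsPullback _ g g₀' ((Groth.L05.ModelFG.specCone A).π.app k.left ≫ D.map k.hom)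
      rw [toStage_snd, (Groth.L05.ModelFG.specCone A).w]; exact sq')
    (toStage_fst sq' k) (IsPullback.of_hasPullback (D.map k.hom) g₀').flip

/-- A model of a pair. -/
theorem exists_model_pair {X Y : Scheme.{u}} (f : X ⟶ Spec (CommRingCat.of A)) (g : Y ⟶ Spec (CommRingCat.of A))
    [QuasiCompact f] [QuasiSeparated f] [LocallyOfFinitePresentation f]
    [QuasiCompact g] [QuasiSeparated g] [LocallyOfFinitePresentation g] :
    ∃ A₀ : Subalgebra ℤ A, A₀.FG ∧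
      ∃ (X₀ Y₀ : Scheme.{u}) (f₀ : X₀ ⟶ Spec (CommRingCat.of ↥A₀)) (g₀ : Y₀ ⟶ Spec (CommRingCat.of ↥A₀))
        (qX : X ⟶ X₀) (qY : Y ⟶ Y₀),
        QuasiCompact f₀ ∧ LocallyOfFiniteType f₀ ∧ QuasiCompact g₀ ∧ LocallyOfFiniteType g₀ ∧
          IsPullback qX f f₀ (π₀ A₀) ∧ IsPullback qY g g₀ (π₀ A₀) := by
  obtain ⟨A₁, hA₁, X₁, f₁, q₁, a1, a2, a3, sq₁⟩ := exists_model f
  obtain ⟨A₂, hA₂, Y₂, g₂, q₂, b1, b2, b3, sq₂⟩ := exists_model g
  obtain ⟨X₀, f₀, qX, -, c1, c2, c3, sX, -, -⟩ := exists_stage (le_sup_left : A₁ ≤ A₁ ⊔ A₂) f f₁ q₁ sq₁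
  obtain ⟨Y₀, g₀, qY, -, d1, d2, d3, sY, -, -⟩ := exists_stage (le_sup_right : A₂ ≤ A₁ ⊔ A₂) g g₂ q₂ sq₂
  exact ⟨A₁ ⊔ A₂, hA₁.sup hA₂, X₀, Y₀, f₀, g₀, qX, qY, c1, inferInstance, d1, inferInstance, sX, sY⟩

end L02.ConsP
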