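import Groth.Agent.L02.ConsP.Fibres
import Groth.Agent.L17.Approx.RestrictFP
import Groth.Agent.L02.ConsP.Models
import Groth.Agent.L02.Cons.Fibrewise

/-!
The loci of (ind-)constructible properties of algebraic schemes are (ind-)constructible over any base.
-/

set_option autoImplicit false
set_option linter.style.haveILetI false
set_option backward.isDefEq.respectTransparency.types false
set_option backward.isDefEq.respectTransparency false
universe u

open CategoryTheory CategoryTheory.Limits AlgebraicGeometry Topology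

namespace L02.ConsP

/-- Statement at a Noetherian stage transported to the affine base. -/
theorem isConstructible_preimage_spec {A : Type u} [CommRing A] {A₀ : Type u} [CommRing A₀] (φ : A₀ →+* A)
    {E : Set (Spec (CommRingCat.of A₀))} (hE : IsConstructible E) :
    IsConstructible ((Spec.map (CommRingCat.ofHom φ)) ⁻¹' E) :=
  L02.Cons.isConstructible_comap_preimage φ hE

section Modules

variable {P : ∀ ⦃Y T : Scheme.{u}⦄, (Y ⟶ T) → Y.Modules → Prop}

/-- An open affine of the base as a Noetherian stage pulled back. -/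
theorem exists_stage_locusMod (hP : ConsProp.IsFieldStableMod P) {X S : Scheme.{u}} (u₀ : X ⟶ S)
    [LocallyOfFinitePresentation u₀] [QuasiCompact u₀] [QuasiSeparated u₀]
    (F : X.Modules) [Coh.IsQCoh F] (hF : CohB1.IsFP F) (U : S.Opens) (hU : IsAffineOpen U) :
    ∃ (A₀ : CommRingCat.{u}) (φ : A₀ ⟶ Γ(S, U)) (X₀ : Scheme.{u}) (f₀ : X₀ ⟶ Spec A₀) (F₀ : X₀.Modules),
      IsNoetherianRing A₀ ∧ QuasiCompact f₀ ∧ LocallyOfFiniteType f₀ ∧ Coh.IsCoh F₀ ∧
        hU.fromSpec ⁻¹' ConsProp.locusMod P u₀ F = Spec.map φ ⁻¹' ConsProp.locusMod P f₀ F₀ := by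
  let fV : pullback u₀ hU.fromSpec ⟶ Spec (CommRingCat.of Γ(S, U)) := pullback.snd u₀ hU.fromSpec
  let q := pullback.fst u₀ hU.fromSpec
  haveI : SheafOfModules.IsFinitePresentation (R := X.ringCatSheaf) F := hF
  haveI : IsOpenImmersion q := MorphismProperty.pullback_fst _ _ inferInstance
  haveI : QuasiCompact fV := MorphismProperty.pullback_snd _ _ inferInstance
  haveI : QuasiSeparated fV := MorphismProperty.pullback_snd _ _ inferInstance
  haveI : LocallyOfFinitePresentation fV := MorphismProperty.pullback_snd _ _ inferInstance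
  let FV := F.restrict q
  haveI : Coh.IsQCoh FV := Scheme.Modules.isQuasicoherent_restrictFunctor q F
  have hFV : CohB1.IsFP FV := Groth.L17.Approx.isFP_restrict q F hF
  have hFT : CohB1.IsFT F := inferInstanceAs (SheafOfModules.IsFiniteType (R := X.ringCatSheaf) F)
  obtain ⟨A₀, hA₀, X₀, f₀, g, F₀, h1, h2, h3, h4, sq, ⟨e⟩⟩ := exists_coherent_model fV FV hFV
  haveI : Coh.IsQCoh F₀ := h4.1
  haveI := h1; haveI := h3
  refine ⟨CommRingCat.of A₀, CommRingCat.ofHom (algebraMap A₀ Γ(S, U)), X₀, f₀, F₀,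
    isNoetherianRing_of_fg hA₀, h1, inferInstance, h4, ?_⟩
  exact Eq.trans (locus_baseChangeMod hP (IsPullback.of_hasPullback u₀ hU.fromSpec) F hFT FV
    ((Scheme.Modules.restrictFunctorIsoPullback q).app F)).symm (locus_baseChangeMod hP sq F₀ h4.2 FV e.symm)

theorem isLocallyConstructible_locusMod (hP : ConsProp.IsConsMod P) {X S : Scheme.{u}} (u₀ : X ⟶ S)
    [LocallyOfFinitePresentation u₀] [QuasiCompact u₀] [QuasiSeparated u₀]
    (F : X.Modules) [Coh.IsQCoh F] (hF : CohB1.IsFP F) :
    IsLocallyConstructible (ConsProp.locusMod P u₀ F) := by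
  refine isLocallyConstructible_of_affine fun U hU => ?_
  obtain ⟨A₀, φ, X₀, f₀, F₀, _, _, _, hF₀, he⟩ := exists_stage_locusMod hP.1 u₀ F hF U hU
  haveI : Coh.IsQCoh F₀ := hF₀.1
  rw [he]
  refine isConstructible_preimage_spec φ.hom (isConstructible_of_integral_closed _ fun T _ _ i _ => ?_)
  have hF₀T := Groth.L16.AffineBC.isCoh_pullback (pullback.fst f₀ i) (G := F₀) hF₀
  haveI : LocallyOfFiniteType (pullback.snd f₀ i) := MorphismProperty.pullback_snd _ _ inferInstance
  haveI : QuasiCompact (pullback.snd f₀ i) := MorphismProperty.pullback_snd _ _ inferInstance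
  have := hP.2 (pullback.snd f₀ i) _ hF₀T
  rwa [locus_baseChangeMod hP.1 (IsPullback.of_hasPullback f₀ i) F₀ hF₀.2 _ (Iso.refl _)] at this

theorem isIndConstructible_locusMod (hP : ConsProp.IsIndConsMod P) {X S : Scheme.{u}} (u₀ : X ⟶ S)
    [LocallyOfFinitePresentation u₀] [QuasiCompact u₀] [QuasiSeparated u₀]
    (F : X.Modules) [Coh.IsQCoh F] (hF : CohB1.IsFP F) :
    ProCons.IsIndConstructible (ConsProp.locusMod P u₀ F) := by
  refine isIndConstructible_of_affine fun U hU p hp => ?_
  obtain ⟨A₀, φ, X₀, f₀, F₀, _, _, _, hF₀, he⟩ := exists_stage_locusMod hP.1 u₀ F hF U hU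
  haveI : Coh.IsQCoh F₀ := hF₀.1
  rw [he] at hp ⊢
  obtain ⟨C, hC, hpC, hCE⟩ := eq_sUnion_of_integral_closed (ConsProp.locusMod P f₀ F₀) (fun T _ _ i _ hg => by
    have hF₀T := Groth.L16.AffineBC.isCoh_pullback (pullback.fst f₀ i) (G := F₀) hF₀
    haveI : LocallyOfFiniteType (pullback.snd f₀ i) := MorphismProperty.pullback_snd _ _ inferInstance
    haveI : QuasiCompact (pullback.snd f₀ i) := MorphismProperty.pullback_snd _ _ inferInstance
    have := hP.2 (pullback.snd f₀ i) _ hF₀T
    rw [locus_baseChangeMod hP.1 (IsPullback.of_hasPullback f₀ i) F₀ hF₀.2 _ (Iso.refl _)] at this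
    exact this hg) _ hp
  exact ⟨_, isConstructible_preimage_spec φ.hom hC, hpC, Set.preimage_mono hCE⟩

end Modules

section Morphisms

variable {P : ∀ ⦃X Y T : Scheme.{u}⦄, (X ⟶ Y) → (Y ⟶ T) → Prop}

theorem exists_stage_locusMor (hP : ConsProp.IsFieldStableMor P) {X Y S : Scheme.{u}} (f : X ⟶ Y) (g : Y ⟶ S)
    [LocallyOfFinitePresentation g] [QuasiCompact g] [QuasiSeparated g]
    [LocallyOfFinitePresentation (f ≫ g)] [QuasiCompact (f ≫ g)] [QuasiSeparated (f ≫ g)]
    (U : S.Opens) (hU : IsAffineOpen U) :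
    ∃ (A₀ : CommRingCat.{u}) (φ : A₀ ⟶ Γ(S, U)) (X₀ Y₀ : Scheme.{u}) (f₀ : X₀ ⟶ Y₀) (g₀ : Y₀ ⟶ Spec A₀),
      IsNoetherianRing A₀ ∧ QuasiCompact g₀ ∧ LocallyOfFiniteType g₀ ∧ QuasiCompact (f₀ ≫ g₀) ∧
        LocallyOfFiniteType (f₀ ≫ g₀) ∧
        hU.fromSpec ⁻¹' ConsProp.locusMor P f g = Spec.map φ ⁻¹' ConsProp.locusMor P f₀ g₀ := by
  let gV : pullback g hU.fromSpec ⟶ Spec (CommRingCat.of Γ(S, U)) := pullback.snd g hU.fromSpec
  let qY := pullback.fst g hU.fromSpec
  let fV := pullback.snd f qY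
  have sqY : IsPullback qY gV g hU.fromSpec := IsPullback.of_hasPullback g hU.fromSpec
  have sqf : IsPullback (pullback.fst f qY) fV f qY := IsPullback.of_hasPullback f qY
  haveI : QuasiCompact gV := MorphismProperty.of_isPullback sqY inferInstance
  haveI : QuasiSeparated gV := MorphismProperty.of_isPullback sqY inferInstance
  haveI : LocallyOfFinitePresentation gV := MorphismProperty.of_isPullback sqY inferInstance
  haveI : QuasiCompact (fV ≫ gV) := MorphismProperty.of_isPullback (sqf.paste_vert sqY) inferInstance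
  haveI : QuasiSeparated (fV ≫ gV) := MorphismProperty.of_isPullback (sqf.paste_vert sqY) inferInstance
  haveI : LocallyOfFinitePresentation (fV ≫ gV) :=
    MorphismProperty.of_isPullback (sqf.paste_vert sqY) inferInstance
  obtain ⟨A₀, hA₀, X₀, Y₀, f₀, g₀, qX', qY', h1, h2, h3, h4, sq1, sq2⟩ := exists_model_mor fV gV
  refine ⟨CommRingCat.of A₀, CommRingCat.ofHom (algebraMap A₀ Γ(S, U)), X₀, Y₀, f₀, g₀,
    isNoetherianRing_of_fg hA₀, h1, h2, h3, h4, ?_⟩
  exact Eq.trans (locus_baseChangeMor hP sqY sqf).symm (locus_baseChangeMor hP sq1 sq2)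

theorem isLocallyConstructible_locusMor (hP : ConsProp.IsConsMor P) {X Y S : Scheme.{u}} (f : X ⟶ Y)
    (g : Y ⟶ S) [LocallyOfFinitePresentation g] [QuasiCompact g] [QuasiSeparated g]
    [LocallyOfFinitePresentation (f ≫ g)] [QuasiCompact (f ≫ g)] [QuasiSeparated (f ≫ g)] :
    IsLocallyConstructible (ConsProp.locusMor P f g) := by
  refine isLocallyConstructible_of_affine fun U hU => ?_
  obtain ⟨A₀, φ, X₀, Y₀, f₀, g₀, _, _, _, _, _, he⟩ := exists_stage_locusMor hP.1 f g U hU
  rw [he]
  refine isConstructible_preimage_spec φ.hom (isConstructible_of_integral_closed _ fun T _ _ i _ => ?_)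
  have sqY := IsPullback.of_hasPullback g₀ i
  have sqf := IsPullback.of_hasPullback f₀ (pullback.fst g₀ i)
  haveI : LocallyOfFiniteType (pullback.snd g₀ i) := MorphismProperty.of_isPullback sqY inferInstance
  haveI : QuasiCompact (pullback.snd g₀ i) := MorphismProperty.of_isPullback sqY inferInstance
  haveI : LocallyOfFiniteType (pullback.snd f₀ (pullback.fst g₀ i) ≫ pullback.snd g₀ i) :=
    MorphismProperty.of_isPullback (sqf.paste_vert sqY) inferInstance
  haveI : QuasiCompact (pullback.snd f₀ (pullback.fst g₀ i) ≫ pullback.snd g₀ i) :=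
    MorphismProperty.of_isPullback (sqf.paste_vert sqY) inferInstance
  have := hP.2 (pullback.snd f₀ (pullback.fst g₀ i)) (pullback.snd g₀ i)
  rwa [locus_baseChangeMor hP.1 sqY sqf] at this

theorem isIndConstructible_locusMor (hP : ConsProp.IsIndConsMor P) {X Y S : Scheme.{u}} (f : X ⟶ Y)
    (g : Y ⟶ S) [LocallyOfFinitePresentation g] [QuasiCompact g] [QuasiSeparated g]
    [LocallyOfFinitePresentation (f ≫ g)] [QuasiCompact (f ≫ g)] [QuasiSeparated (f ≫ g)] :
    ProCons.IsIndConstructible (ConsProp.locusMor P f g) := by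
  refine isIndConstructible_of_affine fun U hU p hp => ?_
  obtain ⟨A₀, φ, X₀, Y₀, f₀, g₀, _, _, _, _, _, he⟩ := exists_stage_locusMor hP.1 f g U hU
  rw [he] at hp ⊢
  obtain ⟨C, hC, hpC, hCE⟩ := eq_sUnion_of_integral_closed (ConsProp.locusMor P f₀ g₀) (fun T _ _ i _ hg => by
    have sqY := IsPullback.of_hasPullback g₀ i
    have sqf := IsPullback.of_hasPullback f₀ (pullback.fst g₀ i)
    haveI : LocallyOfFiniteType (pullback.snd g₀ i) := MorphismProperty.of_isPullback sqY inferInstance
    haveI : QuasiCompact (pullback.snd g₀ i) := MorphismProperty.of_isPullback sqY inferInstance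
    haveI : LocallyOfFiniteType (pullback.snd f₀ (pullback.fst g₀ i) ≫ pullback.snd g₀ i) :=
      MorphismProperty.of_isPullback (sqf.paste_vert sqY) inferInstance
    haveI : QuasiCompact (pullback.snd f₀ (pullback.fst g₀ i) ≫ pullback.snd g₀ i) :=
      MorphismProperty.of_isPullback (sqf.paste_vert sqY) inferInstance
    have := hP.2 (pullback.snd f₀ (pullback.fst g₀ i)) (pullback.snd g₀ i)
    rw [locus_baseChangeMor hP.1 sqY sqf] at this
    exact this hg) _ hp
  exact ⟨_, isConstructible_preimage_spec φ.hom hC, hpC, Set.preimage_mono hCE⟩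

end Morphisms

section Pairs

variable {P : ∀ ⦃X Y T : Scheme.{u}⦄, (X ⟶ T) → (Y ⟶ T) → Prop}

theorem exists_stage_locusPair (hP : ConsPropPair.IsFieldStablePair P) {X Y S : Scheme.{u}} (f : X ⟶ S)
    (g : Y ⟶ S) [LocallyOfFinitePresentation f] [QuasiCompact f] [QuasiSeparated f]
    [LocallyOfFinitePresentation g] [QuasiCompact g] [QuasiSeparated g] (U : S.Opens) (hU : IsAffineOpen U) :
    ∃ (A₀ : CommRingCat.{u}) (φ : A₀ ⟶ Γ(S, U)) (X₀ Y₀ : Scheme.{u}) (f₀ : X₀ ⟶ Spec A₀) (g₀ : Y₀ ⟶ Spec A₀),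
      IsNoetherianRing A₀ ∧ QuasiCompact f₀ ∧ LocallyOfFiniteType f₀ ∧ QuasiCompact g₀ ∧ LocallyOfFiniteType g₀ ∧
        hU.fromSpec ⁻¹' ConsPropPair.locusPair P f g = Spec.map φ ⁻¹' ConsPropPair.locusPair P f₀ g₀ := by
  let fV : pullback f hU.fromSpec ⟶ Spec (CommRingCat.of Γ(S, U)) := pullback.snd f hU.fromSpec
  let gV : pullback g hU.fromSpec ⟶ Spec (CommRingCat.of Γ(S, U)) := pullback.snd g hU.fromSpec
  haveI : QuasiCompact fV := MorphismProperty.pullback_snd _ _ inferInstance
  haveI : QuasiSeparated fV := MorphismProperty.pullback_snd _ _ inferInstance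
  haveI : LocallyOfFinitePresentation fV := MorphismProperty.pullback_snd _ _ inferInstance
  haveI : QuasiCompact gV := MorphismProperty.pullback_snd _ _ inferInstance
  haveI : QuasiSeparated gV := MorphismProperty.pullback_snd _ _ inferInstance
  haveI : LocallyOfFinitePresentation gV := MorphismProperty.pullback_snd _ _ inferInstance
  obtain ⟨A₀, hA₀, X₀, Y₀, f₀, g₀, qX, qY, h1, h2, h3, h4, sq1, sq2⟩ := exists_model_pair fV gV
  refine ⟨CommRingCat.of A₀, CommRingCat.ofHom (algebraMap A₀ Γ(S, U)), X₀, Y₀, f₀, g₀,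
    isNoetherianRing_of_fg hA₀, h1, h2, h3, h4, ?_⟩
  exact Eq.trans (locus_baseChangePair hP (IsPullback.of_hasPullback f hU.fromSpec)
    (IsPullback.of_hasPullback g hU.fromSpec)).symm (locus_baseChangePair hP sq1 sq2)

theorem isLocallyConstructible_locusPair (hP : ConsPropPair.IsConsPair P) {X Y S : Scheme.{u}} (f : X ⟶ S)
    (g : Y ⟶ S) [LocallyOfFinitePresentation f] [QuasiCompact f] [QuasiSeparated f]
    [LocallyOfFinitePresentation g] [QuasiCompact g] [QuasiSeparated g] :
    IsLocallyConstructible (ConsPropPair.locusPair P f g) := by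
  refine isLocallyConstructible_of_affine fun U hU => ?_
  obtain ⟨A₀, φ, X₀, Y₀, f₀, g₀, _, _, _, _, _, he⟩ := exists_stage_locusPair hP.1 f g U hU
  rw [he]
  refine isConstructible_preimage_spec φ.hom (isConstructible_of_integral_closed _ fun T _ _ i _ => ?_)
  haveI : LocallyOfFiniteType (pullback.snd f₀ i) := MorphismProperty.pullback_snd _ _ inferInstance
  haveI : QuasiCompact (pullback.snd f₀ i) := MorphismProperty.pullback_snd _ _ inferInstance
  haveI : LocallyOfFiniteType (pullback.snd g₀ i) := MorphismProperty.pullback_snd _ _ inferInstance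
  haveI : QuasiCompact (pullback.snd g₀ i) := MorphismProperty.pullback_snd _ _ inferInstance
  have := hP.2 (pullback.snd f₀ i) (pullback.snd g₀ i)
  rwa [locus_baseChangePair hP.1 (IsPullback.of_hasPullback f₀ i) (IsPullback.of_hasPullback g₀ i)] at this

theorem isIndConstructible_locusPair (hP : ConsPropPair.IsIndConsPair P) {X Y S : Scheme.{u}} (f : X ⟶ S)
    (g : Y ⟶ S) [LocallyOfFinitePresentation f] [QuasiCompact f] [QuasiSeparated f]
    [LocallyOfFinitePresentation g] [QuasiCompact g] [QuasiSeparated g] :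
    ProCons.IsIndConstructible (ConsPropPair.locusPair P f g) := by
  refine isIndConstructible_of_affine fun U hU p hp => ?_
  obtain ⟨A₀, φ, X₀, Y₀, f₀, g₀, _, _, _, _, _, he⟩ := exists_stage_locusPair hP.1 f g U hU
  rw [he] at hp ⊢
  obtain ⟨C, hC, hpC, hCE⟩ := eq_sUnion_of_integral_closed (ConsPropPair.locusPair P f₀ g₀) (fun T _ _ i _ hg => by
    haveI : LocallyOfFiniteType (pullback.snd f₀ i) := MorphismProperty.pullback_snd _ _ inferInstance
    haveI : QuasiCompact (pullback.snd f₀ i) := MorphismProperty.pullback_snd _ _ inferInstance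
    haveI : LocallyOfFiniteType (pullback.snd g₀ i) := MorphismProperty.pullback_snd _ _ inferInstance
    haveI : QuasiCompact (pullback.snd g₀ i) := MorphismProperty.pullback_snd _ _ inferInstance
    have := hP.2 (pullback.snd f₀ i) (pullback.snd g₀ i)
    rw [locus_baseChangePair hP.1 (IsPullback.of_hasPullback f₀ i) (IsPullback.of_hasPullback g₀ i)] at this
    exact this hg) _ hp
  exact ⟨_, isConstructible_preimage_spec φ.hom hC, hpC, Set.preimage_mono hCE⟩

end Pairs

end L02.ConsP
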