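import Groth.Agent.L02.ConsP.Main
import Groth.Agent.L02.ConsP.FGA
import Groth.Agent.L05.Point.FibreMap
import Groth.Agent.L19.Limit.Immersion

/-!
Existence of a morphism of given kind after an extension of the field is an ind-constructible
property of pairs of algebraic schemes.
-/

set_option autoImplicit false
set_option linter.style.haveILetI false
set_option backward.isDefEq.respectTransparency.types false
set_option backward.isDefEq.respectTransparency false
universe u

open CategoryTheory CategoryTheory.Limits AlgebraicGeometry Topology Opposite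
open Groth.L19.Limit

namespace L02.ConsP

/-- Some extension of the field carries a morphism in `Q`. -/
def ExistsQ (Q : MorphismProperty Scheme.{u}) ⦃X Y T : Scheme.{u}⦄ (gX : X ⟶ T) (gY : Y ⟶ T) : Prop :=
  ∃ (T' X' Y' : Scheme.{u}) (h : T' ⟶ T) (gX' : X' ⟶ T') (gY' : Y' ⟶ T')
    (eX : X' ⟶ X) (eY : Y' ⟶ Y), IsIntegral T' ∧ Subsingleton ↥T' ∧
      IsPullback eX gX' gX h ∧ IsPullback eY gY' gY h ∧ ∃ g : X' ⟶ Y', g ≫ gY' = gX' ∧ Q g

variable {Q : MorphismProperty Scheme.{u}} [Q.IsStableUnderBaseChange]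

theorem isFieldStablePair_existsQ : ConsPropPair.IsFieldStablePair (ExistsQ Q) := by
  intro X X' Y Y' T T' gX gY gX' gY' eX eY h _ _ _ _ _ _ _ _ sqX sqY
  constructor
  · rintro ⟨T₂, X₂, Y₂, h₂, gX₂, gY₂, eX₂, eY₂, hi, hs, sX, sY, g, hg, hQ⟩
    haveI := hi
    haveI := hs
    obtain ⟨t₂⟩ : Nonempty T₂ := inferInstance
    obtain ⟨t'⟩ : Nonempty T' := inferInstance
    obtain ⟨z, -, -⟩ := Scheme.Pullback.exists_preimage_pullback (f := h₂) (g := h) t₂ t' (Subsingleton.elim _ _)
    let T₃ := Spec ((pullback h₂ h).residueField z)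
    let a : T₃ ⟶ T₂ := (pullback h₂ h).fromSpecResidueField z ≫ pullback.fst h₂ h
    let b : T₃ ⟶ T' := (pullback h₂ h).fromSpecResidueField z ≫ pullback.snd h₂ h
    have hab : a ≫ h₂ = b ≫ h := by simp only [a, b, Category.assoc, pullback.condition]
    have sY₃ := IsPullback.of_hasPullback gY₂ a
    have sX₃ := IsPullback.of_hasPullback g (pullback.fst gY₂ a)
    have sX₃' : IsPullback (pullback.fst g (pullback.fst gY₂ a) ≫ eX₂)
        (pullback.snd g (pullback.fst gY₂ a) ≫ pullback.snd gY₂ a) gX (b ≫ h) := by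
      rw [← hab]
      have := sX₃.paste_vert sY₃
      rw [hg] at this
      exact this.paste_horiz sX
    have sY₃' : IsPullback (pullback.fst gY₂ a ≫ eY₂) (pullback.snd gY₂ a) gY (b ≫ h) := by
      rw [← hab]; exact sY₃.paste_horiz sY
    refine ⟨T₃, _, _, b, _, pullback.snd gY₂ a,
      sqX.lift _ (_ ≫ b) (sX₃'.w.trans (Category.assoc _ _ _).symm),
      sqY.lift _ (_ ≫ b) (sY₃'.w.trans (Category.assoc _ _ _).symm), inferInstance, inferInstance,
      ?_, ?_, pullback.snd g (pullback.fst gY₂ a), rfl, MorphismProperty.pullback_snd _ _ hQ⟩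
    · exact IsPullback.of_right (by rw [sqX.lift_fst]; exact sX₃') (sqX.lift_snd _ _ _) sqX
    · exact IsPullback.of_right (by rw [sqY.lift_fst]; exact sY₃') (sqY.lift_snd _ _ _) sqY
  · rintro ⟨T₂, X₂, Y₂, h₂, gX₂, gY₂, eX₂, eY₂, hi, hs, sX, sY, g, hg, hQ⟩
    exact ⟨T₂, X₂, Y₂, h₂ ≫ h, gX₂, gY₂, eX₂ ≫ eX, eY₂ ≫ eY, hi, hs, sX.paste_horiz sqX,
      sY.paste_horiz sqY, g, hg, hQ⟩

theorem isAffine_of_subsingleton' (T : Scheme.{u}) [Subsingleton T] [Nonempty T] : IsAffine T := by
  obtain ⟨t⟩ := ‹Nonempty T›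
  obtain ⟨U, hU, htU, -⟩ := exists_isAffineOpen_mem_and_subset (X := T) (x := t) (U := ⊤) trivial
  obtain rfl : U = ⊤ := top_le_iff.1 fun x _ => (Subsingleton.elim t x) ▸ htU
  haveI : IsAffine _ := hU
  exact IsAffine.of_isIso T.topIso.inv

/-- A morphism in `Q` over an extension of a point comes from a finite type scheme over the base. -/
theorem exists_spread (hQ : Descends Q qcqsfp) {X Y S : Scheme.{u}} (u₀ : X ⟶ S) (v₀ : Y ⟶ S)
    [IsNoetherian S] [LocallyOfFiniteType u₀] [QuasiCompact u₀] [LocallyOfFiniteType v₀] [QuasiCompact v₀]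
    {η : S} (hη : η ∈ ConsPropPair.locusPair (ExistsQ Q) u₀ v₀) :
    ∃ (B : Scheme.{u}) (a : B ⟶ S), LocallyOfFiniteType a ∧ QuasiCompact a ∧ η ∈ Set.range a ∧
      ∃ (XB YB : Scheme.{u}) (uB : XB ⟶ B) (vB : YB ⟶ B) (qX : XB ⟶ X) (qY : YB ⟶ Y) (g : XB ⟶ YB),
        IsPullback qX uB u₀ a ∧ IsPullback qY vB v₀ a ∧ g ≫ vB = uB ∧ Q g := by
  obtain ⟨T', X', Y', h, gX', gY', eX, eY, hi, hs, sX, sY, g, hg, hQg⟩ := hη
  haveI := hi; haveI := hs
  haveI := isAffine_of_subsingleton' T'
  let K : Type u := Γ(T', ⊤)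
  obtain ⟨_, ⟨V, hV, rfl⟩, hηV, -⟩ :=
    S.isBasis_affineOpens.exists_subset_of_mem_open (Set.mem_univ η) isOpen_univ
  replace hV : IsAffineOpen V := hV
  let hT : T' ⟶ S := h ≫ S.fromSpecResidueField η
  have hTt : ∀ t, hT t = η := fun t => by
    rw [Scheme.Hom.comp_apply]
    exact (Scheme.range_fromSpecResidueField η).subset ⟨_, rfl⟩
  have hle : (⊤ : T'.Opens) ≤ hT ⁻¹ᵁ V := fun t _ => by
    show hT t ∈ V
    rw [hTt]; exact hηV
  let A := Γ(S, V)
  letI : Algebra A K := (hT.appLE V ⊤ hle).hom.toAlgebra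
  let D := FGA.specDiagram A K
  let c := FGA.specCone A K
  have hc : IsLimit c := FGA.isLimitSpecCone A K
  haveI : ∀ i, CompactSpace (D.obj i) := fun i => inferInstanceAs (CompactSpace (Spec _))
  haveI : ∀ i, QuasiSeparatedSpace (D.obj i) := fun i => inferInstanceAs (QuasiSeparatedSpace (Spec _))
  let R : (FGA.FG A K)ᵒᵖ → Type u := fun i => (i.unop.1 : Subalgebra A K)
  let toS : ∀ i, D.obj i ⟶ S := fun i => Spec.map (CommRingCat.ofHom (algebraMap A i.unop.1)) ≫ hV.fromSpec
  have htoS : ∀ {i j} (φ : i ⟶ j), D.map φ ≫ toS j = toS i := fun φ => by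
    show Spec.map _ ≫ Spec.map _ ≫ _ = _
    rw [← Category.assoc, ← Spec.map_comp]
    rfl
  have htoS_lft : ∀ i, LocallyOfFiniteType (toS i) := fun i => by
    haveI : LocallyOfFiniteType (Spec.map (CommRingCat.ofHom (algebraMap A i.unop.1))) :=
      HasRingHomProperty.Spec_iff.mpr (RingHom.finiteType_algebraMap.mpr (Subalgebra.fg_iff_finiteType _ |>.mp i.unop.2))
    exact inferInstanceAs (LocallyOfFiniteType (_ ≫ _))
  let e : c.pt ≅ T' := T'.isoSpec.symm
  have he : ∀ i, c.π.app i ≫ toS i = e.hom ≫ hT := fun i => by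
    show Spec.map _ ≫ Spec.map _ ≫ _ = _
    rw [← Category.assoc, ← Spec.map_comp]
    refine (congrArg (fun z => Spec.map z ≫ hV.fromSpec)
      (show _ = hT.appLE V ⊤ hle from CommRingCat.hom_ext rfl)).trans ?_
    rw [IsAffineOpen.SpecMap_appLE_fromSpec hT hV (isAffineOpen_top T') hle]
    congr 1
    exact IsAffineOpen.fromSpec_top
  haveI : LocallyOfFinitePresentation u₀ := inferInstance
  haveI : LocallyOfFinitePresentation v₀ := inferInstance
  haveI : IsLocallyNoetherian X := LocallyOfFiniteType.isLocallyNoetherian u₀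
  haveI : IsLocallyNoetherian Y := LocallyOfFiniteType.isLocallyNoetherian v₀
  let i₀ : (FGA.FG A K)ᵒᵖ := op ⟨⊥, Subalgebra.fg_bot⟩
  let xi : pullback u₀ (toS i₀) ⟶ D.obj i₀ := pullback.snd u₀ (toS i₀)
  let yi : pullback v₀ (toS i₀) ⟶ D.obj i₀ := pullback.snd v₀ (toS i₀)
  haveI : LocallyOfFinitePresentation xi := MorphismProperty.pullback_snd _ _ inferInstance
  haveI : LocallyOfFinitePresentation yi := MorphismProperty.pullback_snd _ _ inferInstance
  haveI : QuasiCompact xi := MorphismProperty.pullback_snd _ _ inferInstance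
  haveI : QuasiCompact yi := MorphismProperty.pullback_snd _ _ inferInstance
  haveI : QuasiSeparated xi := MorphismProperty.pullback_snd _ _ inferInstance
  haveI : QuasiSeparated yi := MorphismProperty.pullback_snd _ _ inferInstance
  haveI : CompactSpace (pullback u₀ (toS i₀) : Scheme.{u}) := QuasiCompact.compactSpace_of_compactSpace xi
  haveI : QuasiSeparatedSpace (pullback u₀ (toS i₀) : Scheme.{u}) := quasiSeparatedSpace_of_quasiSeparated xi
  haveI : CompactSpace (pullback v₀ (toS i₀) : Scheme.{u}) := QuasiCompact.compactSpace_of_compactSpace yi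
  haveI : QuasiSeparatedSpace (pullback v₀ (toS i₀) : Scheme.{u}) := quasiSeparatedSpace_of_quasiSeparated yi
  have mk : ∀ {Z Z' : Scheme.{u}} {z₀ : Z ⟶ S} {gZ : Z' ⟶ T'} {eZ : Z' ⟶ z₀.fiber η}
      (_ : IsPullback eZ gZ (z₀.fiberToSpecResidueField η) h),
      ∃ q : Z' ⟶ pullback z₀ (toS i₀), q ≫ pullback.fst z₀ (toS i₀) = eZ ≫ z₀.fiberι η ∧
        IsPullback q (gZ ≫ e.inv) (pullback.snd z₀ (toS i₀)) (c.π.app i₀) := by
    intro Z Z' z₀ gZ eZ sZ
    have h1 : IsPullback (eZ ≫ z₀.fiberι η) gZ z₀ hT :=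
      sZ.paste_horiz (IsPullback.of_hasPullback z₀ (S.fromSpecResidueField η))
    have h2 : IsPullback (eZ ≫ z₀.fiberι η) (gZ ≫ e.inv) z₀ (c.π.app i₀ ≫ toS i₀) := by
      rw [he]
      exact h1.of_iso (Iso.refl _) (Iso.refl _) e.symm (Iso.refl _) (by simp) (by simp) (by simp) (by simp)
    exact ⟨pullback.lift (eZ ≫ z₀.fiberι η) ((gZ ≫ e.inv) ≫ c.π.app i₀) (by rw [Category.assoc]; exact h2.w),
      pullback.lift_fst _ _ _,
      IsPullback.of_right (by rw [pullback.lift_fst]; exact h2) (pullback.lift_snd _ _ _)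
        (IsPullback.of_hasPullback z₀ (toS i₀))⟩
  obtain ⟨qX, -, sXi⟩ := mk sX
  obtain ⟨qY, -, sYi⟩ := mk sY
  obtain ⟨j, φ, fj, tX, tY, hfj, hX1, hX2, hY1, hY2, hcomm⟩ :=
    exists_hom_stage hc sXi sYi g (by rw [← Category.assoc, hg])
  let xj := pullback.snd xi (D.map φ)
  let yj := pullback.snd yi (D.map φ)
  have stX : IsPullback tX (gX' ≫ e.inv) xj (c.π.app j) :=
    IsPullback.of_right (by rw [hX1, c.w]; exact sXi) hX2 (IsPullback.of_hasPullback xi (D.map φ))
  have stY : IsPullback tY (gY' ≫ e.inv) yj (c.π.app j) :=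
    IsPullback.of_right (by rw [hY1, c.w]; exact sYi) hY2 (IsPullback.of_hasPullback yi (D.map φ))
  have stg : IsPullback tX g fj tY := by
    refine IsPullback.of_bot ?_ hcomm stY
    rw [← Category.assoc, hg, hfj]
    exact stX
  haveI : QuasiCompact yj := MorphismProperty.pullback_snd _ _ inferInstance
  haveI : QuasiSeparated yj := MorphismProperty.pullback_snd _ _ inferInstance
  haveI : LocallyOfFinitePresentation yj := MorphismProperty.pullback_snd _ _ inferInstance
  haveI : QuasiCompact (fj ≫ yj) := hfj ▸ MorphismProperty.pullback_snd _ _ inferInstance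
  haveI : QuasiSeparated (fj ≫ yj) := hfj ▸ MorphismProperty.pullback_snd _ _ inferInstance
  haveI : LocallyOfFinitePresentation (fj ≫ yj) := hfj ▸ MorphismProperty.pullback_snd _ _ inferInstance
  haveI : LocallyOfFinitePresentation fj := Groth.Agent.S12442.result fj yj
  haveI : QuasiCompact fj := QuasiCompact.of_comp fj yj
  haveI : QuasiSeparated fj := QuasiSeparated.of_comp fj yj
  let J : Over j := Over.mk (𝟙 j)
  haveI : CompactSpace ((bcDiagram D yj).obj J) :=
    haveI : QuasiCompact (pullback.fst (D.map J.hom) yj) := MorphismProperty.pullback_fst _ _ ‹_›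
    QuasiCompact.compactSpace_of_compactSpace (pullback.fst (D.map J.hom) yj)
  let w : (bcDiagram D yj).obj J ⟶ pullback yi (D.map φ) := pullback.snd (D.map J.hom) yj
  obtain ⟨k, m, hk⟩ := hQ (isLimitSqCone hc stY) (i := J) (pullback.snd fj w)
    (MorphismProperty.pullback_snd _ _ (show qcqsfp fj from
      ⟨⟨inferInstance, inferInstance⟩, inferInstance⟩)) ((pb_snd_iff w _).mpr (by
      rw [show (sqCone stY).π.app J ≫ w = tY from toStage_snd stY J]
      exact (pb_iff_of_isPullback stg).mp hQg))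
  have hk' := (pb_snd_iff w _).mp hk
  let p : (bcDiagram D yj).obj k ⟶ pullback yi (D.map φ) := (bcDiagram D yj).map m ≫ w
  have hp : p = pullback.snd (D.map k.hom) yj := by simp [p, w, bcDiagram]
  refine ⟨D.obj k.left, toS k.left, htoS_lft _, ?_, ?_, pullback p fj, _, pullback.fst p fj ≫ pullback.fst (D.map k.hom) yj,
    pullback.fst (D.map k.hom) yj, pullback.snd p fj ≫ pullback.fst xi (D.map φ) ≫ pullback.fst u₀ (toS i₀),
    pullback.snd (D.map k.hom) yj ≫ pullback.fst yi (D.map φ) ≫ pullback.fst v₀ (toS i₀),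
    pullback.fst p fj, ?_, ?_, rfl, hk'⟩
  · exact QuasiCompact.of_comp (toS k.left) (terminal.from S)
  · obtain ⟨t⟩ : Nonempty T' := inferInstance
    exact ⟨c.π.app k.left (e.inv t), by
      rw [← Scheme.Hom.comp_apply, he, Scheme.Hom.comp_apply]
      exact hTt _⟩
  · have b0 := (IsPullback.of_hasPullback xi (D.map φ)).paste_horiz (IsPullback.of_hasPullback u₀ (toS i₀))
    rw [htoS] at b0
    have b1 : IsPullback (pullback.snd p fj) (pullback.fst p fj ≫ pullback.fst (D.map k.hom) yj) xj (D.map k.hom) := by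
      have h3 := (IsPullback.of_hasPullback p fj).flip
      have h4 : IsPullback p (pullback.fst (D.map k.hom) yj) yj (D.map k.hom) :=
        hp ▸ (IsPullback.of_hasPullback (D.map k.hom) yj).flip
      have := h3.paste_vert h4
      rwa [hfj] at this
    have := b1.paste_horiz b0
    rwa [htoS] at this
  · have b0 := (IsPullback.of_hasPullback yi (D.map φ)).paste_horiz (IsPullback.of_hasPullback v₀ (toS i₀))
    rw [htoS] at b0
    have := (IsPullback.of_hasPullback (D.map k.hom) yj).flip.paste_horiz b0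
    rwa [htoS] at this

theorem isIndConsPair_existsQ (hQ : Descends Q qcqsfp) : ConsPropPair.IsIndConsPair (ExistsQ Q) := by
  refine ⟨isFieldStablePair_existsQ, fun X Y S u₀ v₀ _ _ _ _ _ _ hη => ?_⟩
  obtain ⟨B, a, _, _, hηa, XB, YB, uB, vB, qX, qY, g, sX, sY, hg, hQg⟩ := exists_spread hQ u₀ v₀ hη
  have hsub : Set.range a ⊆ ConsPropPair.locusPair (ExistsQ Q) u₀ v₀ := by
    rintro _ ⟨r, rfl⟩
    refine ⟨Spec (B.residueField r), _, _, Spec.map (a.residueFieldMap r), uB.fiberToSpecResidueField r,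
      vB.fiberToSpecResidueField r, fib sX.w r, fib sY.w r, inferInstance, inferInstance,
      isPullback_fib sX r, isPullback_fib sY r, CohIII.fiberMapOver g uB vB hg r, ?_, ?_⟩
    · exact (pullback.lift_snd _ _ _).trans (Category.comp_id _)
    · exact MorphismProperty.of_isPullback (Groth.L05.Point.isPullback_fiberMapOver g vB uB hg r) hQg
  haveI : LocallyOfFinitePresentation a := inferInstance
  have hc : IsLocallyConstructible (Set.range a) := by
    simpa [Set.image_univ] using a.isLocallyConstructible_image IsLocallyConstructible.univ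
  exact ⟨_, interior_mono hsub (mem_interior_of_ind (isIndConstructible_of_isLocallyConstructible hc) hηa)⟩

end L02.ConsP
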