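import Groth.Agent.L06.Constr
import Groth.Agent.L00.ProConsPre
import Groth.Agent.L19.Limit.Cons
import Groth.Agent.L18.KerReduced
import Groth.Agent.L07.DimSub
import Mathlib.AlgebraicGeometry.Noetherian

/-!
From generic behaviour on integral closed subschemes to (ind-)constructibility.
-/

set_option autoImplicit false
set_option linter.style.haveILetI false
set_option backward.isDefEq.respectTransparency.types false
set_option backward.isDefEq.respectTransparency false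
universe u

open CategoryTheory CategoryTheory.Limits AlgebraicGeometry Topology TopologicalSpace

namespace L02.ConsP

/-- An irreducible closed subset is the image of an integral noetherian closed subscheme. -/
theorem exists_integral_closed {S : Scheme.{u}} [IsNoetherian S] {C : Set S} (hC : IsClosed C)
    (hCi : IsIrreducible C) : ∃ (T : Scheme.{u}) (i : T ⟶ S) (_ : IsClosedImmersion i) (_ : IsIntegral T)
      (_ : IsNoetherian T), Set.range i = C := by
  let I := Scheme.IdealSheafData.vanishingIdeal (⟨C, hC⟩ : Closeds S)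
  have hr : Set.range I.subschemeι = C := Groth.L07.DimToolkit.range_subschemeι_vanishingIdeal ⟨C, hC⟩
  obtain ⟨ξ, hξ⟩ := QuasiSober.sober hCi hC
  haveI : IsReduced I.subscheme := Groth.L18.isReduced_vanishingIdeal_subscheme _
  obtain ⟨hirr, -⟩ := Groth.L07.DimToolkit.irreducible_of_range_eq I.subschemeι ξ (hr.trans hξ.def.symm)
  haveI : IsLocallyNoetherian I.subscheme := LocallyOfFiniteType.isLocallyNoetherian I.subschemeι
  haveI : CompactSpace I.subscheme := QuasiCompact.compactSpace_of_compactSpace I.subschemeι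
  exact ⟨_, I.subschemeι, inferInstance, isIntegral_of_irreducibleSpace_of_isReduced _, {}, hr⟩

theorem isConstructible_of_integral_closed {S : Scheme.{u}} [IsNoetherian S] (E : Set S)
    (h : ∀ (T : Scheme.{u}) [IsIntegral T] [IsNoetherian T] (i : T ⟶ S) [IsClosedImmersion i],
      (interior (i ⁻¹' E)).Nonempty ∨ (interior (i ⁻¹' E)ᶜ).Nonempty) :
    IsConstructible E := by
  refine Groth.L06.Constr.isConstructible_of_forall_irreducible fun C hC hCi => ?_
  obtain ⟨T, i, _, _, _, hr⟩ := exists_integral_closed hC hCi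
  have key : ∀ E' : Set S, (interior (i ⁻¹' E')).Nonempty →
      ∃ U, IsOpen U ∧ (U ∩ C).Nonempty ∧ U ∩ C ⊆ E' := by
    rintro E' ⟨t, ht⟩
    obtain ⟨U, hU, hUe⟩ := i.isEmbedding.isInducing.isOpen_iff.1 isOpen_interior
    refine ⟨U, hU, ⟨i t, show t ∈ i ⁻¹' U from hUe ▸ ht, hr ▸ ⟨t, rfl⟩⟩, ?_⟩
    rintro x ⟨hxU, hxC⟩
    obtain ⟨w, rfl⟩ := hr.ge hxC
    exact interior_subset (s := i ⁻¹' E') (hUe.subset hxU)
  rcases h T i with h1 | h1
  · obtain ⟨U, hU, hne, hsub⟩ := key E h1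
    exact ⟨U, hU, hne, Or.inl hsub⟩
  · obtain ⟨U, hU, hne, hsub⟩ := key Eᶜ (by rwa [Set.preimage_compl])
    exact ⟨U, hU, hne, Or.inr hsub⟩

theorem eq_sUnion_of_integral_closed {S : Scheme.{u}} [IsNoetherian S] (E : Set S)
    (h : ∀ (T : Scheme.{u}) [IsIntegral T] [IsNoetherian T] (i : T ⟶ S) [IsClosedImmersion i],
      genericPoint T ∈ i ⁻¹' E → (interior (i ⁻¹' E)).Nonempty) :
    ∀ s ∈ E, ∃ C : Set S, IsConstructible C ∧ s ∈ C ∧ C ⊆ E := by
  intro s hs
  obtain ⟨T, i, _, _, _, hr⟩ := exists_integral_closed isClosed_closure ((isIrreducible_singleton (x := s)).closure)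
  obtain ⟨hirr, hgen⟩ := Groth.L07.DimToolkit.irreducible_of_range_eq i s hr
  obtain ⟨U, hU, hUe⟩ := i.isEmbedding.isInducing.isOpen_iff.1 (isOpen_interior (s := i ⁻¹' E))
  refine ⟨U ∩ closure {s}, (Groth.L06.Constr.isConstructible_of_isOpen hU).inter
    (Groth.L06.Constr.isConstructible_of_isClosed isClosed_closure), ⟨?_, subset_closure rfl⟩, ?_⟩
  · have hne := h T i (show i (genericPoint T) ∈ E from hgen ▸ hs)
    have hg : genericPoint T ∈ interior (i ⁻¹' E) :=
      ((genericPoint_spec T).mem_open_set_iff isOpen_interior).2 (by simpa using hne)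
    rw [← hgen]
    exact (hUe ▸ hg : genericPoint T ∈ i ⁻¹' U)
  · rintro x ⟨hxU, hxC⟩
    obtain ⟨w, rfl⟩ := hr.ge hxC
    exact interior_subset (s := i ⁻¹' E) (hUe.subset hxU)

theorem isLocallyConstructible_of_affine {S : Scheme.{u}} {E : Set S}
    (h : ∀ (U : S.Opens) (hU : IsAffineOpen U), IsConstructible (hU.fromSpec ⁻¹' E)) :
    IsLocallyConstructible E := by
  refine IsLocallyConstructible.of_isOpenCover (U := fun U : S.affineOpens => U.1)
    (iSup_affineOpens_eq_top S) fun U => ?_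
  have hc := (h U.1 U.2).isLocallyConstructible.preimage_of_isOpenEmbedding (U.2.isoSpec.hom.isOpenEmbedding)
  refine (congrArg IsLocallyConstructible (Set.ext fun x => ?_)).mp hc
  show U.2.fromSpec (U.2.isoSpec.hom x) ∈ E ↔ x.1 ∈ E
  rw [← Scheme.Hom.comp_apply, U.2.isoSpec_hom_fromSpec]
  rfl

theorem isIndConstructible_of_affine {S : Scheme.{u}} {E : Set S}
    (h : ∀ (U : S.Opens) (hU : IsAffineOpen U), ∀ p ∈ hU.fromSpec ⁻¹' E,
      ∃ C : Set (Spec Γ(S, U)), IsConstructible C ∧ p ∈ C ∧ C ⊆ hU.fromSpec ⁻¹' E) :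
    ProCons.IsIndConstructible E := by
  intro x
  obtain ⟨_, ⟨U, hU, rfl⟩, hxU, -⟩ :=
    S.isBasis_affineOpens.exists_subset_of_mem_open (Set.mem_univ x) isOpen_univ
  refine ⟨(U : Set S), U.2, hxU, {T | IsLocallyConstructible T ∧ T ⊆ Subtype.val ⁻¹' E}, fun T hT => hT.1, ?_⟩
  refine Set.Subset.antisymm (fun v hv => ?_) (Set.sUnion_subset fun T hT => hT.2)
  have he : ∀ w : ↥(U : Set S), hU.fromSpec (hU.isoSpec.hom w) = w.1 := fun w => by
    rw [← Scheme.Hom.comp_apply, hU.isoSpec_hom_fromSpec]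
    rfl
  obtain ⟨C, hC, hpC, hCE⟩ := h U hU (hU.isoSpec.hom v) (show hU.fromSpec _ ∈ E by rw [he]; exact hv)
  refine ⟨hU.isoSpec.hom ⁻¹' C, ⟨hC.isLocallyConstructible.preimage_of_isOpenEmbedding
    hU.isoSpec.hom.isOpenEmbedding, fun w hw => ?_⟩, hpC⟩
  show w.1 ∈ E
  rw [← he w]
  exact hCE hw

/-- In an irreducible space an (ind-)constructible set containing the generic point is a neighbourhood
of it. -/
theorem mem_interior_of_ind {S : Type u} [TopologicalSpace S] [QuasiSober S] [IrreducibleSpace S]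
    {E : Set S} (hE : ProCons.IsIndConstructible E) (h : genericPoint S ∈ E) : genericPoint S ∈ interior E := by
  obtain ⟨U, hU, hgU, 𝒮, h𝒮, hEq⟩ := hE (genericPoint S)
  obtain ⟨T, hT, hgT⟩ : (⟨genericPoint S, hgU⟩ : ↥U) ∈ ⋃₀ 𝒮 := hEq ▸ (show _ ∈ Subtype.val ⁻¹' E from h)
  obtain ⟨V, hV, hVo, hc⟩ := h𝒮 T hT ⟨genericPoint S, hgU⟩
  obtain ⟨n, Z, hZ, hZe⟩ := Groth.L06.Constr.exists_finite_isLocallyClosed hc
  have hgV : (⟨genericPoint S, hgU⟩ : ↥U) ∈ V := mem_of_mem_nhds hV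
  obtain ⟨i, hi⟩ : ∃ i, (⟨⟨genericPoint S, hgU⟩, hgV⟩ : ↥V) ∈ Z i := by
    have : (⟨⟨genericPoint S, hgU⟩, hgV⟩ : ↥V) ∈ Subtype.val ⁻¹' T := hgT
    rwa [hZe, Set.mem_iUnion] at this
  obtain ⟨O, K, hO, hK, hOK⟩ := hZ i
  have hg : ∀ v : ↥V, (⟨⟨genericPoint S, hgU⟩, hgV⟩ : ↥V) ⤳ v := fun v =>
    IsInducing.subtypeVal.specializes_iff.1 (IsInducing.subtypeVal.specializes_iff.1
      ((genericPoint_spec S).specializes trivial))
  have hK' : ∀ v, v ∈ K := fun v => (hg v).mem_closed hK ((hOK ▸ hi).2)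
  refine mem_interior.2 ⟨Subtype.val '' (Subtype.val '' O), ?_,
    hU.isOpenMap_subtype_val _ (hVo.isOpenMap_subtype_val _ hO), ⟨_, ⟨_, (hOK ▸ hi).1, rfl⟩, rfl⟩⟩
  rintro _ ⟨_, ⟨v, hv, rfl⟩, rfl⟩
  have hvT : v ∈ Subtype.val ⁻¹' T := hZe ▸ Set.mem_iUnion.2 ⟨i, hOK ▸ ⟨hv, hK' v⟩⟩
  exact hEq.ge ⟨T, hT, hvT⟩

theorem isIndConstructible_of_isLocallyConstructible {S : Type u} [TopologicalSpace S] {E : Set S}
    (hE : IsLocallyConstructible E) : ProCons.IsIndConstructible E := fun _ =>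
  ⟨Set.univ, isOpen_univ, trivial, {Subtype.val ⁻¹' E},
    fun T hT => hT ▸ hE.preimage_of_isOpenEmbedding isOpen_univ.isOpenEmbedding_subtypeVal,
    (Set.sUnion_singleton _).symm⟩

/-- An ind-constructible set whose preimage in the limit is everything is everything at some stage. -/
theorem exists_stage_eq_univ {I : Type u} [Category.{u} I] [IsCofiltered I] {D : I ⥤ Scheme.{u}}
    {c : Cone D} [∀ {i j} (f : i ⟶ j), IsAffineHom (D.map f)] (hc : IsLimit c) {i : I}
    [CompactSpace (D.obj i)] {E : Set (D.obj i)} (hE : ProCons.IsIndConstructible E)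
    (h : ∀ s, c.π.app i s ∈ E) : ∃ (j : I) (φ : j ⟶ i), ∀ t, D.map φ t ∈ E := by
  obtain ⟨j, φ, hφ⟩ := Groth.L19.Limit.exists_preimage_eq_empty hc
    (Groth.L19.Limit.cc_compl_of_isIndConstructible hE)
    (Set.eq_empty_iff_forall_notMem.2 fun s hs => hs (h s))
  exact ⟨j, φ, fun t => by_contra fun ht => (Set.eq_empty_iff_forall_notMem.1 hφ t) ht⟩

end L02.ConsP
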